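import Cfsg.Agent.ChevOddInvol.Torus
import Cfsg.Agent.Chevalley.GroupOrder

/-!
# The order of the centralizer of a torus involution
-/

set_option autoImplicit false

namespace CfsgLib.ChevOddInvol

open Cfsg.Lie CfsgLib.Chevalley

variable {D : ChevalleyDatum} {C : Weyl.Cert D.rank} {M : CoxeterMatrix (Fin D.rank)}
  {R : Weyl.RootTable} {F : Type*} [Field F]

/-- The ordered product over the positive roots of parameters supported on a set. -/
noncomputable def supProd (hD : Good D) (S : Set (Root D)) (f : S → F) : GL D.Idx F :=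
  haveI : DecidablePred (· ∈ S) := Classical.decPred _
  prodFrom hD false
    (fun j => if hj : j < D.nroots then (if hs : (⟨j, hj⟩ : Root D) ∈ S then f ⟨_, hs⟩ else 0) else 0)
    (half D) (half D)

theorem supProd_injective (hU : GoodUni D) {S : Set (Root D)}
    (hS : ∀ r ∈ S, half D ≤ (r : ℕ)) : Function.Injective (supProd (F := F) hU.good S) := by
  classical
  intro f g e
  funext ⟨r, hr⟩
  have h2 := hU.good.two_half
  have := prodFrom_injective hU (half D) (half D) le_rfl (by omega) _ _ e r (hS r hr)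
    (by have := r.isLt; omega)
  simpa [r.isLt, hr] using this

theorem supProd_mem (hD : Good D) (S : Set (Root D)) (f : S → F) :
    supProd hD S f ∈ rootGen hD F S := by
  classical
  refine Subgroup.list_prod_mem _ fun x hx => ?_
  obtain ⟨j, hj, rfl⟩ := List.mem_map.1 hx
  rw [List.mem_range'_1] at hj
  have hlt : j < D.nroots := by have := hD.two_half; omega
  rw [rootOf_false hD hlt]
  simp only [dif_pos hlt]
  split
  · next hs => exact X_mem_rootGen hD hs _
  · rw [X_zero]; exact one_mem _

theorem exists_supProd (hU : GoodUni D) [Finite F] {S : Set (Root D)}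
    (hS : ∀ r ∈ S, half D ≤ (r : ℕ))
    (hc : Nat.card (rootGen hU.good F S) = Nat.card F ^ Nat.card S) {g : GL D.Idx F}
    (hg : g ∈ rootGen hU.good F S) : ∃ f, supProd hU.good S f = g := by
  classical
  have hbij : Function.Bijective
      (fun f => (⟨supProd hU.good S f, supProd_mem hU.good S f⟩ : rootGen hU.good F S)) := by
    have hinj : Function.Injective
        (fun f => (⟨supProd hU.good S f, supProd_mem hU.good S f⟩ : rootGen hU.good F S)) :=
      fun f g e => supProd_injective hU hS (congrArg Subtype.val e)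
    refine (Nat.bijective_iff_injective_and_card _).2 ⟨hinj, ?_⟩
    rw [hc, Nat.card_fun]
  obtain ⟨f, hf⟩ := hbij.2 ⟨g, hg⟩
  exact ⟨f, congrArg Subtype.val hf⟩

theorem conj_supProd (hW : GoodWeyl D) (S : Set (Root D)) {masks : List ℕ} {b : ℕ}
    (hb : tInv D F masks b ∈ D.diagonalSubgroup F) (f : S → F) :
    tInv D F masks b * supProd hW.good S f * (tInv D F masks b)⁻¹ =
      supProd hW.good S (fun r => (unitOf F (sgn D masks b (r : Root D)) : F) * f r) := by
  classical
  have hconj : ∀ (L : List (GL D.Idx F)) (t : GL D.Idx F),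
      t * L.prod * t⁻¹ = (L.map fun x => t * x * t⁻¹).prod := fun L t => by
    induction L with
    | nil => simp
    | cons x L ih => rw [List.prod_cons, List.map_cons, List.prod_cons, ← ih]; group
  rw [supProd, supProd, prodFrom, prodFrom, hconj, List.map_map]
  congr 1
  apply List.map_congr_left
  intro j hj
  rw [List.mem_range'_1] at hj
  have hlt : j < D.nroots := by have := hW.good.two_half; omega
  simp only [Function.comp_apply, rootOf_false hW.good hlt, dif_pos hlt, tInv_conj_X hW hb]
  split <;> simp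

/-- The number of fixed points of a torus involution on a unipotent root subgroup product. -/
theorem card_fix_rootGen (hW : GoodWeyl D) [Fintype F] (h2 : (2 : F) ≠ 0) {S : Set (Root D)}
    (hS : ∀ r ∈ S, half D ≤ (r : ℕ))
    (hc : Nat.card (rootGen hW.good F S) = Nat.card F ^ Nat.card S) {masks : List ℕ} {b : ℕ}
    (hb : tInv D F masks b ∈ D.diagonalSubgroup F) :
    Nat.card {u : GL D.Idx F //
        u ∈ rootGen hW.good F S ∧ u * tInv D F masks b = tInv D F masks b * u} =
      Nat.card F ^ Nat.card {r : Root D // r ∈ S ∧ sgn D masks b r = false} := by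
  classical
  set t := tInv D F masks b
  have hfix : ∀ f : S → F, (supProd hW.good S f * t = t * supProd hW.good S f) ↔
      ∀ r : S, sgn D masks b (r : Root D) = true → f r = 0 := by
    intro f
    rw [← mul_inv_eq_iff_eq_mul (a := t * supProd hW.good S f) |>.trans eq_comm,
      conj_supProd hW S hb]
    constructor
    · intro e r hr
      have := congrFun (supProd_injective hW.toGoodUni hS e) r
      simp only [hr, unitOf, if_true, Units.val_neg, Units.val_one] at this
      have h0 : (2 : F) * f r = 0 := by linear_combination -this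
      exact (mul_eq_zero.1 h0).resolve_left h2
    · intro h0
      congr 1
      funext r
      cases hr : sgn D masks b (r : Root D)
      · simp [unitOf]
      · simp [h0 r hr]
  let ext' : ({r : Root D // r ∈ S ∧ sgn D masks b r = false} → F) → S → F := fun f r =>
    if hr : sgn D masks b (r : Root D) = false then f ⟨r, r.2, hr⟩ else 0
  rw [← Nat.card_fun]
  refine (Nat.card_eq_of_bijective (fun f : {r : Root D // r ∈ S ∧ sgn D masks b r = false} → F =>
    (⟨supProd hW.good S (ext' f), supProd_mem _ _ _, (hfix _).2 fun r hr => by simp [ext', hr]⟩ :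
      {u : GL D.Idx F // u ∈ rootGen hW.good F S ∧ u * t = t * u})) ⟨?_, ?_⟩).symm
  · intro f g e
    funext ⟨r, hr, hr'⟩
    have := congrFun (supProd_injective hW.toGoodUni hS (congrArg Subtype.val e)) ⟨r, hr⟩
    simpa [ext', hr'] using this
  · rintro ⟨u, hu, hut⟩
    obtain ⟨f, rfl⟩ := exists_supProd hW.toGoodUni hS hc hu
    refine ⟨fun r => f ⟨r.1, r.2.1⟩, Subtype.ext ?_⟩
    show supProd hW.good S _ = _
    congr 1
    funext r
    by_cases hr : sgn D masks b (r : Root D) = false
    · simp [ext', hr]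
    · simp [ext', hr, (hfix f).1 hut r (by simpa using hr)]

variable (hW : GoodWeyl D) (h : Weyl.RootGood C M R)

include hW in
theorem card_invRoots (w : M.Group) :
    Nat.card (invRoots h w : Set (Root D)) = (h.invSet w).card := by
  classical
  rw [Nat.subtype_card]
  intro r
  rw [h.mem_invSet, posIdx_iff hW.good h, posIdx_iff hW.good h]
  show _ ↔ (half D ≤ r ∧ _)
  rw [Nat.not_le]

theorem uW_card_eq [Finite F] (w : M.Group) :
    Nat.card (rootGen hW.good F (invRoots h w)) = Nat.card F ^ Nat.card (invRoots h w : Set (Root D)) := by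
  rw [show rootGen hW.good F (invRoots h w) = uW hW h F w from rfl, natCard_uW hW h,
    h.length_eq_card_invSet, card_invRoots hW h]

theorem pos_card_eq [Finite F] :
    Nat.card (rootGen hW.good F (posSet D)) = Nat.card F ^ Nat.card (posSet D : Set (Root D)) := by
  rw [← posUnipotent_eq_rootGen hW.good, posUnipotent_eq hW.good, natCard_uGe hW.toGoodUni]
  congr 1
  have h2 := hW.good.two_half
  symm
  rw [show half D = Nat.card (Fin (half D)) from (Nat.card_fin _).symm]
  exact Nat.card_congr
    { toFun := fun r => ⟨(r.1 : ℕ) - half D, by have := r.1.isLt; have := r.2; simp only [posSet, Set.mem_ofPred_eq] at this; omega⟩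
      invFun := fun i => ⟨⟨half D + i, by have := i.isLt; omega⟩, by show half D ≤ half D + (i : ℕ); omega⟩
      left_inv := fun r => by
        have := r.2
        simp only [posSet, Set.mem_ofPred_eq] at this
        refine Subtype.ext (Fin.ext ?_)
        show half D + ((r.1 : ℕ) - half D) = r.1
        omega
      right_inv := fun i => Fin.ext (by show half D + (i : ℕ) - half D = i; omega) }

include h in
theorem nW_commute_iff (h2 : (2 : F) ≠ 0) {masks : List ℕ} {b : ℕ}
    (hb : tInv D F masks b ∈ D.diagonalSubgroup F) (w : M.Group) :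
    nW hW h F w * tInv D F masks b = tInv D F masks b * nW hW h F w ↔
      ∀ r : Root D, sgn D masks b (h.rootPerm w r) = sgn D masks b r := by
  set t := tInv D F masks b with ht
  set n := nW hW h F w
  obtain ⟨ct, hct⟩ : n * t * n⁻¹ ∈ (torHom D F).range := by
    rw [← diagonalSubgroup_eq_range hW]
    exact (Subgroup.mem_normalizer_iff.1 (monomial_le_normalizer hW (nW_mem hW h w)) t).1 hb
  change torC D ct = _ at hct
  set χ : Root D → Fˣ := fun s => ∏ k : Fin D.rank, ct k ^ D.cartan k s with hχ
  have hval : ∀ r, χ (h.rootPerm w r) = unitOf F (sgn D masks b (r : Root D)) := by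
    intro r
    obtain ⟨c, hc⟩ := (monBy_nW (F := F) hW h w).conj_X r
    have e : n * t * n⁻¹ * (n * X hW.good r 1 * n⁻¹) * (n * t * n⁻¹)⁻¹ =
        n * (t * X hW.good r 1 * t⁻¹) * n⁻¹ := by group
    rw [ht, tInv_conj_X hW hb, hc, hc, ← ht, ← hct, ChevTorus.torC_conj_X] at e
    have e2 := X_injective hW.good _ e
    refine Units.ext ?_
    have hce : ((χ (h.rootPerm w r) : Fˣ) : F) * (c : F) =
        (unitOf F (sgn D masks b (r : Root D)) : F) * (c : F) := by
      rw [mul_comm _ (c : F), mul_comm _ (c : F)]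
      simp only [mul_one] at e2
      rw [hχ]
      simpa [ChevTorus.torVal, mul_comm] using e2
    exact mul_right_cancel₀ c.ne_zero hce
  constructor
  · intro e r
    have e' : n * t * n⁻¹ = t := by rw [e, mul_inv_cancel_right]
    rw [← hct, ht, tInv] at e'
    have := congrFun (tor_injective (e' : tor χ = _)) (h.rootPerm w r)
    exact (unitOf_injective h2 ((hval r).symm.trans this)).symm
  · intro hs
    rw [← mul_inv_eq_iff_eq_mul, ← hct, ht, tInv]
    show tor χ = tor _
    congr 1
    funext r
    obtain ⟨r', rfl⟩ := (h.rootPerm w).surjective r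
    rw [hval, hs]

/-- The roots fixed by the involution. -/
def fixRoots (D : ChevalleyDatum) (masks : List ℕ) (b : ℕ) (S : Set (Root D)) : Set (Root D) :=
  {r | r ∈ S ∧ sgn D masks b r = false}

include hW h in
/-- The order of the centralizer of a torus involution. -/
theorem card_centralizer [Fintype F] [Fintype M.Group] (h2 : (2 : F) ≠ 0) {masks : List ℕ} {b : ℕ}
    (hb : tInv D F masks b ∈ D.diagonalSubgroup F)
    [DecidablePred fun w : M.Group =>
      ∀ r : Root D, sgn D masks b (h.rootPerm w r) = sgn D masks b r] :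
    Nat.card {g : GL D.Idx F // g ∈ D.group F ∧ g * tInv D F masks b = tInv D F masks b * g} =
      Nat.card F ^ Nat.card (fixRoots D masks b (posSet D)) * Nat.card (D.diagonalSubgroup F) *
        ∑ w ∈ Finset.univ.filter (fun w : M.Group =>
            ∀ r : Root D, sgn D masks b (h.rootPerm w r) = sgn D masks b r),
          Nat.card F ^ Nat.card (fixRoots D masks b (invRoots h w)) := by
  classical
  set t := tInv D F masks b with ht
  let W' := {w : M.Group // ∀ r : Root D, sgn D masks b (h.rootPerm w r) = sgn D masks b r}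
  let CU := {u : GL D.Idx F // u ∈ rootGen hW.good F (posSet D) ∧ u * t = t * u}
  let CW := fun w : W' => {u : GL D.Idx F // u ∈ rootGen hW.good F (invRoots h w.1) ∧ u * t = t * u}
  have key : Nat.card (Σ w : W', CU × ↥(D.diagonalSubgroup F) × CW w) =
      Nat.card {g : GL D.Idx F // g ∈ D.group F ∧ g * t = t * g} := by
    have hpos : ∀ v : GL D.Idx F, v ∈ rootGen hW.good F (posSet D) → v ∈ D.posUnipotent F :=
      fun v hv => posUnipotent_eq_rootGen (F := F) hW.good ▸ hv
    refine Nat.card_eq_of_bijective (fun p => ⟨(p.2.1 : GL D.Idx F) * p.2.2.1 *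
      nW hW h F p.1.1 * p.2.2.2.1, ?_, ?_⟩) ⟨?_, ?_⟩
    · obtain ⟨⟨w, hw⟩, ⟨v, hv, -⟩, ⟨k, hk⟩, ⟨u, hu, -⟩⟩ := p
      exact cell_subset_group hW h
        ⟨v * k, mul_mem (pos_le_borel D (hpos v hv)) (diag_le_borel D hk), u,
          pos_le_borel D (uW_le_pos hW h w hu), rfl⟩
    · obtain ⟨⟨w, hw⟩, ⟨v, hv, hvt⟩, ⟨k, hk⟩, ⟨u, hu, hut⟩⟩ := p
      have hn := (nW_commute_iff hW h h2 hb w).2 hw
      show Commute (v * k * nW hW h F w * u) t
      exact ((Commute.mul_left hvt (diag_comm hW hk hb)).mul_left hn).mul_left hut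
    · rintro ⟨⟨w, hw⟩, ⟨v, hv, hvt⟩, ⟨k, hk⟩, ⟨u, hu, hut⟩⟩
        ⟨⟨w', hw'⟩, ⟨v', hv', hvt'⟩, ⟨k', hk'⟩, ⟨u', hu', hut'⟩⟩ e
      have e' : v * k * nW hW h F w * u = v' * k' * nW hW h F w' * u' := Subtype.ext_iff.1 e
      obtain rfl : w = w' := cell_eq_of_mem hW h
        ⟨v * k, mul_mem (pos_le_borel D (hpos v hv)) (diag_le_borel D hk), u,
          pos_le_borel D (uW_le_pos hW h w hu), rfl⟩
        ⟨v' * k', mul_mem (pos_le_borel D (hpos v' hv')) (diag_le_borel D hk'), u',
          pos_le_borel D (uW_le_pos hW h w' hu'), e'.symm⟩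
      obtain ⟨eb, rfl⟩ := form_unique hW h
        (mul_mem (pos_le_borel D (hpos v hv)) (diag_le_borel D hk))
        (mul_mem (pos_le_borel D (hpos v' hv')) (diag_le_borel D hk')) hu hu' e'
      have hmem : v'⁻¹ * v ∈ D.posUnipotent F ⊓ D.diagonalSubgroup F := by
        refine Subgroup.mem_inf.2 ⟨mul_mem (inv_mem (hpos v' hv')) (hpos v hv), ?_⟩
        rw [show v'⁻¹ * v = k' * k⁻¹ by
          rw [eq_mul_inv_iff_mul_eq, mul_assoc, eb, inv_mul_cancel_left]]
        exact mul_mem hk' (inv_mem hk)
      rw [pos_inf_diag hW, Subgroup.mem_bot, inv_mul_eq_one] at hmem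
      subst hmem
      obtain rfl := mul_left_cancel eb
      rfl
    · rintro ⟨g, hg, hgt⟩
      obtain ⟨⟨w, bb, u⟩, ⟨hbb, hu, e⟩, -⟩ := existsUnique_form hW h hg
      dsimp only at hbb hu e
      obtain ⟨v, hv, k, hk, rfl⟩ := (mem_borel_iff hW).1 hbb
      set n := nW hW h F w with hndef
      have htn : t * n * t⁻¹ * n⁻¹ ∈ D.diagonalSubgroup F := by
        rw [show t * n * t⁻¹ * n⁻¹ = t * (n * t⁻¹ * n⁻¹) by group]
        exact mul_mem hb ((Subgroup.mem_normalizer_iff.1
          (monomial_le_normalizer hW (nW_mem hW h w)) t⁻¹).1 (inv_mem hb))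
      set y := t * n * t⁻¹ * n⁻¹ with hy
      have hconjU : ∀ S : Set (Root D), ∀ x ∈ rootGen hW.good F S,
          t * x * t⁻¹ ∈ rootGen hW.good F S := fun S x hx =>
        (Subgroup.mem_normalizer_iff.1 (diag_le_normalizer_rootGen hW S hb) x).1 hx
      have hgt' : t * g * t⁻¹ = g := by rw [← hgt, mul_inv_cancel_right]
      have etv : t * v * t⁻¹ ∈ D.posUnipotent F :=
        (Subgroup.mem_normalizer_iff.1 (diag_le_normalizer_pos hW hb) v).1 hv
      have e2 : t * v * t⁻¹ * (k * y) * n * (t * u * t⁻¹) = v * k * n * u := by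
        rw [e, ← hgt', ← e, hy,
          show t * v * t⁻¹ * (k * (t * n * t⁻¹ * n⁻¹)) * n * (t * u * t⁻¹) =
            t * v * (t⁻¹ * (k * t)) * n * u * t⁻¹ by group,
          diag_comm hW hk hb, inv_mul_cancel_left]
        group
      obtain ⟨e3, e4⟩ := form_unique hW h
        (mul_mem (pos_le_borel D etv) (diag_le_borel D (mul_mem hk htn)))
        hbb (hconjU _ u hu) hu e2
      have hut : u * t = t * u := (mul_inv_eq_iff_eq_mul.1 e4).symm
      have hmem : v⁻¹ * (t * v * t⁻¹) ∈ D.posUnipotent F ⊓ D.diagonalSubgroup F := by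
        refine Subgroup.mem_inf.2 ⟨mul_mem (inv_mem hv) etv, ?_⟩
        rw [show v⁻¹ * (t * v * t⁻¹) = k * (k * y)⁻¹ by
          rw [eq_mul_inv_iff_mul_eq, mul_assoc, e3, inv_mul_cancel_left]]
        exact mul_mem hk (inv_mem (mul_mem hk htn))
      rw [pos_inf_diag hW, Subgroup.mem_bot, inv_mul_eq_one] at hmem
      have hvt : v * t = t * v := (mul_inv_eq_iff_eq_mul.1 hmem.symm).symm
      have hy1 : y = 1 := by
        rw [← hmem] at e3
        have := mul_left_cancel e3
        exact mul_eq_left.1 this
      have hnt : n * t = t * n := by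
        rw [hy, mul_inv_eq_one, mul_inv_eq_iff_eq_mul] at hy1
        exact hy1.symm
      exact ⟨⟨⟨w, (nW_commute_iff hW h h2 hb w).1 hnt⟩,
        ⟨v, posUnipotent_eq_rootGen (F := F) hW.good ▸ hv, hvt⟩, ⟨k, hk⟩, ⟨u, hu, hut⟩⟩,
        Subtype.ext e⟩
  have hpart : ∀ w : W', Nat.card (CU × ↥(D.diagonalSubgroup F) × CW w) =
      Nat.card F ^ Nat.card (fixRoots D masks b (posSet D)) * Nat.card (D.diagonalSubgroup F) *
        Nat.card F ^ Nat.card (fixRoots D masks b (invRoots h w.1)) := by
    intro w
    have h1 := card_fix_rootGen (F := F) hW h2 (fun r (hr : r ∈ posSet D) => hr) (pos_card_eq hW) hb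
    have h3 := card_fix_rootGen (F := F) hW h2 (S := invRoots h w.1) (fun r hr => hr.1)
      (uW_card_eq hW h w.1) hb
    rw [Nat.card_prod, Nat.card_prod, ← mul_assoc]
    exact congrArg₂ (fun a c => a * Nat.card (D.diagonalSubgroup F) * c) h1 h3
  rw [← key, Nat.card_sigma, Finset.sum_congr rfl fun w _ => hpart w, ← Finset.mul_sum]
  congr 1
  exact (Finset.sum_subtype _ (fun w => by simp) fun w =>
    Nat.card F ^ Nat.card (fixRoots D masks b (invRoots h w))).symm

end CfsgLib.ChevOddInvol
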