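import Cfsg.Agent.ChevOddInvol.Weyl
import Cfsg.Agent.Weyl.RootE8
import Cfsg.Agent.Chevalley.WeylData

/-! The certificate of `InvolGood` for type E8 (generated table, checked by the kernel). -/

set_option autoImplicit false
set_option maxHeartbeats 1000000

namespace CfsgLib.ChevOddInvol

open Cfsg.Lie

/-- The certificate. -/
def involCertE8 : List RepData := [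
  ⟨[], 0, 0, [
    (0, .next 1 []), (1, .next 1 [7]), (2, .next 1 [7, 6]), (3, .next 1 [7, 6, 5]),
    (4, .next 1 [7, 6, 5, 4]), (5, .next 1 [7, 6, 5, 4, 3]), (6, .next 1 [7, 6, 5, 4, 3, 2]), (7, .next 1 [7, 6, 5, 4, 3, 1]),
    (8, .next 1 [7, 6, 5, 4, 3, 1, 2]), (9, .next 1 [7, 6, 5, 4, 3, 1, 2, 3]), (10, .next 1 [7, 6, 5, 4, 3, 1, 2, 3, 4]), (11, .next 1 [7, 6, 5, 4, 3, 1, 2, 3, 4, 5]),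
    (12, .next 1 [7, 6, 5, 4, 3, 1, 2, 3, 4, 5, 6]), (13, .next 1 [7, 6, 5, 4, 3, 1, 2, 3, 4, 5, 6, 7]), (14, .next 1 [7, 6, 5, 4, 3, 2, 0]), (15, .next 1 [7, 6, 5, 4, 3, 1, 2, 0]),
    (16, .next 1 [7, 6, 5, 4, 3, 1, 2, 0, 3]), (17, .next 1 [7, 6, 5, 4, 3, 1, 2, 0, 3, 4]), (18, .next 1 [7, 6, 5, 4, 3, 1, 2, 0, 3, 4, 5]), (19, .next 1 [7, 6, 5, 4, 3, 1, 2, 0, 3, 4, 5, 6]),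
    (20, .next 1 [7, 6, 5, 4, 3, 1, 2, 0, 3, 4, 5, 6, 7]), (21, .next 1 [7, 6, 5, 4, 3, 1, 2, 0, 3, 2]), (22, .next 1 [7, 6, 5, 4, 3, 1, 2, 0, 3, 2, 4]), (23, .next 1 [7, 6, 5, 4, 3, 1, 2, 0, 3, 2, 4, 5]),
    (24, .next 1 [7, 6, 5, 4, 3, 1, 2, 0, 3, 2, 4, 5, 6]), (25, .next 1 [7, 6, 5, 4, 3, 1, 2, 0, 3, 2, 4, 5, 6, 7]), (26, .next 1 [7, 6, 5, 4, 3, 1, 2, 0, 3, 2, 4, 3]), (27, .next 1 [7, 6, 5, 4, 3, 1, 2, 0, 3, 2, 4, 3, 5]),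
    (28, .next 1 [7, 6, 5, 4, 3, 1, 2, 0, 3, 2, 4, 3, 5, 6]), (29, .next 1 [7, 6, 5, 4, 3, 1, 2, 0, 3, 2, 4, 3, 5, 6, 7]), (30, .next 1 [7, 6, 5, 4, 3, 1, 2, 0, 3, 2, 4, 3, 5, 4]), (31, .next 1 [7, 6, 5, 4, 3, 1, 2, 0, 3, 2, 4, 3, 5, 4, 6]),
    (32, .next 1 [7, 6, 5, 4, 3, 1, 2, 0, 3, 2, 4, 3, 5, 4, 6, 7]), (33, .next 1 [7, 6, 5, 4, 3, 1, 2, 0, 3, 2, 4, 3, 5, 4, 6, 5]), (34, .next 1 [7, 6, 5, 4, 3, 1, 2, 0, 3, 2, 4, 3, 5, 4, 6, 5, 7]), (35, .next 1 [7, 6, 5, 4, 3, 1, 2, 0, 3, 2, 4, 3, 5, 4, 6, 5, 7, 6]),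
    (36, .next 1 [7, 6, 5, 4, 3, 1, 2, 0, 3, 2, 4, 3, 1]), (37, .next 1 [7, 6, 5, 4, 3, 1, 2, 0, 3, 2, 4, 3, 1, 5]), (38, .next 1 [7, 6, 5, 4, 3, 1, 2, 0, 3, 2, 4, 3, 1, 5, 6]), (39, .next 1 [7, 6, 5, 4, 3, 1, 2, 0, 3, 2, 4, 3, 1, 5, 6, 7]),
    (40, .next 1 [7, 6, 5, 4, 3, 1, 2, 0, 3, 2, 4, 3, 1, 5, 4]), (41, .next 1 [7, 6, 5, 4, 3, 1, 2, 0, 3, 2, 4, 3, 1, 5, 4, 6]), (42, .next 1 [7, 6, 5, 4, 3, 1, 2, 0, 3, 2, 4, 3, 1, 5, 4, 6, 7]), (43, .next 1 [7, 6, 5, 4, 3, 1, 2, 0, 3, 2, 4, 3, 1, 5, 4, 6, 5]),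
    (44, .next 1 [7, 6, 5, 4, 3, 1, 2, 0, 3, 2, 4, 3, 1, 5, 4, 6, 5, 7]), (45, .next 1 [7, 6, 5, 4, 3, 1, 2, 0, 3, 2, 4, 3, 1, 5, 4, 6, 5, 7, 6]), (46, .next 1 [7, 6, 5, 4, 3, 1, 2, 0, 3, 2, 4, 3, 1, 5, 4, 3]), (47, .next 1 [7, 6, 5, 4, 3, 1, 2, 0, 3, 2, 4, 3, 1, 5, 4, 3, 6]),
    (48, .next 1 [7, 6, 5, 4, 3, 1, 2, 0, 3, 2, 4, 3, 1, 5, 4, 3, 6, 7]), (49, .next 1 [7, 6, 5, 4, 3, 1, 2, 0, 3, 2, 4, 3, 1, 5, 4, 3, 6, 5]), (50, .next 1 [7, 6, 5, 4, 3, 1, 2, 0, 3, 2, 4, 3, 1, 5, 4, 3, 6, 5, 7]), (51, .next 1 [7, 6, 5, 4, 3, 1, 2, 0, 3, 2, 4, 3, 1, 5, 4, 3, 6, 5, 7, 6]),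
    (52, .next 1 [7, 6, 5, 4, 3, 1, 2, 0, 3, 2, 4, 3, 1, 5, 4, 3, 6, 5, 4]), (53, .next 1 [7, 6, 5, 4, 3, 1, 2, 0, 3, 2, 4, 3, 1, 5, 4, 3, 6, 5, 4, 7]), (54, .next 1 [7, 6, 5, 4, 3, 1, 2, 0, 3, 2, 4, 3, 1, 5, 4, 3, 6, 5, 4, 7, 6]), (55, .next 1 [7, 6, 5, 4, 3, 1, 2, 0, 3, 2, 4, 3, 1, 5, 4, 3, 6, 5, 4, 7, 6, 5]),
    (56, .next 1 [7, 6, 5, 4, 3, 1, 2, 0, 3, 2, 4, 3, 1, 5, 4, 3, 2]), (57, .next 1 [7, 6, 5, 4, 3, 1, 2, 0, 3, 2, 4, 3, 1, 5, 4, 3, 2, 6]), (58, .next 1 [7, 6, 5, 4, 3, 1, 2, 0, 3, 2, 4, 3, 1, 5, 4, 3, 2, 6, 7]), (59, .next 1 [7, 6, 5, 4, 3, 1, 2, 0, 3, 2, 4, 3, 1, 5, 4, 3, 2, 6, 5]),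
    (60, .next 1 [7, 6, 5, 4, 3, 1, 2, 0, 3, 2, 4, 3, 1, 5, 4, 3, 2, 6, 5, 7]), (61, .next 1 [7, 6, 5, 4, 3, 1, 2, 0, 3, 2, 4, 3, 1, 5, 4, 3, 2, 6, 5, 7, 6]), (62, .next 1 [7, 6, 5, 4, 3, 1, 2, 0, 3, 2, 4, 3, 1, 5, 4, 3, 2, 6, 5, 4]), (63, .next 1 [7, 6, 5, 4, 3, 1, 2, 0, 3, 2, 4, 3, 1, 5, 4, 3, 2, 6, 5, 4, 7]),
    (64, .next 1 [7, 6, 5, 4, 3, 1, 2, 0, 3, 2, 4, 3, 1, 5, 4, 3, 2, 6, 5, 4, 7, 6]), (65, .next 1 [7, 6, 5, 4, 3, 1, 2, 0, 3, 2, 4, 3, 1, 5, 4, 3, 2, 6, 5, 4, 7, 6, 5]), (66, .next 1 [7, 6, 5, 4, 3, 1, 2, 0, 3, 2, 4, 3, 1, 5, 4, 3, 2, 6, 5, 4, 3]), (67, .next 1 [7, 6, 5, 4, 3, 1, 2, 0, 3, 2, 4, 3, 1, 5, 4, 3, 2, 6, 5, 4, 3, 7]),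
    (68, .next 1 [7, 6, 5, 4, 3, 1, 2, 0, 3, 2, 4, 3, 1, 5, 4, 3, 2, 6, 5, 4, 3, 7, 6]), (69, .next 1 [7, 6, 5, 4, 3, 1, 2, 0, 3, 2, 4, 3, 1, 5, 4, 3, 2, 6, 5, 4, 3, 7, 6, 5]), (70, .next 1 [7, 6, 5, 4, 3, 1, 2, 0, 3, 2, 4, 3, 1, 5, 4, 3, 2, 6, 5, 4, 3, 7, 6, 5, 4]), (71, .next 1 [7, 6, 5, 4, 3, 1, 2, 0, 3, 2, 4, 3, 1, 5, 4, 3, 2, 6, 5, 4, 3, 1]),
    (72, .next 1 [7, 6, 5, 4, 3, 1, 2, 0, 3, 2, 4, 3, 1, 5, 4, 3, 2, 6, 5, 4, 3, 1, 7]), (73, .next 1 [7, 6, 5, 4, 3, 1, 2, 0, 3, 2, 4, 3, 1, 5, 4, 3, 2, 6, 5, 4, 3, 1, 7, 6]), (74, .next 1 [7, 6, 5, 4, 3, 1, 2, 0, 3, 2, 4, 3, 1, 5, 4, 3, 2, 6, 5, 4, 3, 1, 7, 6, 5]), (75, .next 1 [7, 6, 5, 4, 3, 1, 2, 0, 3, 2, 4, 3, 1, 5, 4, 3, 2, 6, 5, 4, 3, 1, 7, 6,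 5, 4]),
    (76, .next 1 [7, 6, 5, 4, 3, 1, 2, 0, 3, 2, 4, 3, 1, 5, 4, 3, 2, 6, 5, 4, 3, 1, 7, 6, 5, 4, 3]), (77, .next 1 [7, 6, 5, 4, 3, 1, 2, 0, 3, 2, 4, 3, 1, 5, 4, 3, 2, 6, 5, 4, 3, 1, 7, 6, 5, 4, 3, 2]), (78, .next 1 [7, 6, 5, 4, 3, 1, 2, 0, 3, 2, 4, 3, 1, 5, 4, 3, 2, 0]), (79, .next 1 [7, 6, 5, 4, 3, 1, 2, 0, 3, 2, 4, 3, 1, 5, 4, 3, 2, 0, 6]),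
    (80, .next 1 [7, 6, 5, 4, 3, 1, 2, 0, 3, 2, 4, 3, 1, 5, 4, 3, 2, 0, 6, 7]), (81, .next 1 [7, 6, 5, 4, 3, 1, 2, 0, 3, 2, 4, 3, 1, 5, 4, 3, 2, 0, 6, 5]), (82, .next 1 [7, 6, 5, 4, 3, 1, 2, 0, 3, 2, 4, 3, 1, 5, 4, 3, 2, 0, 6, 5, 7]), (83, .next 1 [7, 6, 5, 4, 3, 1, 2, 0, 3, 2, 4, 3, 1, 5, 4, 3, 2, 0, 6, 5, 7, 6]),
    (84, .next 1 [7, 6, 5, 4, 3, 1, 2, 0, 3, 2, 4, 3, 1, 5, 4, 3, 2, 0, 6, 5, 4]), (85, .next 1 [7, 6, 5, 4, 3, 1, 2, 0, 3, 2, 4, 3, 1, 5, 4, 3, 2, 0, 6, 5, 4, 7]), (86, .next 1 [7, 6, 5, 4, 3, 1, 2, 0, 3, 2, 4, 3, 1, 5, 4, 3, 2, 0, 6, 5, 4, 7, 6]), (87, .next 1 [7, 6, 5, 4, 3, 1, 2, 0, 3, 2, 4, 3, 1, 5, 4, 3, 2, 0, 6, 5, 4, 7, 6, 5]),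
    (88, .next 1 [7, 6, 5, 4, 3, 1, 2, 0, 3, 2, 4, 3, 1, 5, 4, 3, 2, 0, 6, 5, 4, 3]), (89, .next 1 [7, 6, 5, 4, 3, 1, 2, 0, 3, 2, 4, 3, 1, 5, 4, 3, 2, 0, 6, 5, 4, 3, 7]), (90, .next 1 [7, 6, 5, 4, 3, 1, 2, 0, 3, 2, 4, 3, 1, 5, 4, 3, 2, 0, 6, 5, 4, 3, 7, 6]), (91, .next 1 [7, 6, 5, 4, 3, 1, 2, 0, 3, 2, 4, 3, 1, 5, 4, 3, 2, 0, 6, 5, 4, 3, 7, 6, 5]),
    (92, .next 1 [7, 6, 5, 4, 3, 1, 2, 0, 3, 2, 4, 3, 1, 5, 4, 3, 2, 0, 6, 5, 4, 3, 7, 6, 5, 4]), (93, .next 1 [7, 6, 5, 4, 3, 1, 2, 0, 3, 2, 4, 3, 1, 5, 4, 3, 2, 0, 6, 5, 4, 3, 2]), (94, .next 1 [7, 6, 5, 4, 3, 1, 2, 0, 3, 2, 4, 3, 1, 5, 4, 3, 2, 0, 6, 5, 4, 3, 2, 7]), (95, .next 1 [7, 6, 5, 4, 3, 1, 2, 0, 3, 2, 4, 3, 1, 5, 4, 3, 2, 0, 6, 5, 4, 3, 2,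 7, 6]),
    (96, .next 1 [7, 6, 5, 4, 3, 1, 2, 0, 3, 2, 4, 3, 1, 5, 4, 3, 2, 0, 6, 5, 4, 3, 2, 7, 6, 5]), (97, .next 1 [7, 6, 5, 4, 3, 1, 2, 0, 3, 2, 4, 3, 1, 5, 4, 3, 2, 0, 6, 5, 4, 3, 2, 7, 6, 5, 4]), (98, .next 1 [7, 6, 5, 4, 3, 1, 2, 0, 3, 2, 4, 3, 1, 5, 4, 3, 2, 0, 6, 5, 4, 3, 2, 7, 6, 5, 4, 3]), (99, .next 1 [7, 6, 5, 4, 3, 1, 2, 0, 3, 2, 4, 3, 1, 5, 4, 3, 2, 0, 6, 5, 4, 3, 1]),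
    (100, .next 1 [7, 6, 5, 4, 3, 1, 2, 0, 3, 2, 4, 3, 1, 5, 4, 3, 2, 0, 6, 5, 4, 3, 1, 7]), (101, .next 1 [7, 6, 5, 4, 3, 1, 2, 0, 3, 2, 4, 3, 1, 5, 4, 3, 2, 0, 6, 5, 4, 3, 1, 7, 6]), (102, .next 1 [7, 6, 5, 4, 3, 1, 2, 0, 3, 2, 4, 3, 1, 5, 4, 3, 2, 0, 6, 5, 4, 3, 1, 7, 6, 5]), (103, .next 1 [7, 6, 5, 4, 3, 1, 2, 0, 3, 2, 4, 3, 1, 5, 4, 3, 2, 0, 6, 5, 4, 3, 1, 7, 6, 5, 4]),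
    (104, .next 1 [7, 6, 5, 4, 3, 1, 2, 0, 3, 2, 4, 3, 1, 5, 4, 3, 2, 0, 6, 5, 4, 3, 1, 7, 6, 5, 4, 3]), (105, .next 1 [7, 6, 5, 4, 3, 1, 2, 0, 3, 2, 4, 3, 1, 5, 4, 3, 2, 0, 6, 5, 4, 3, 1, 2]), (106, .next 1 [7, 6, 5, 4, 3, 1, 2, 0, 3, 2, 4, 3, 1, 5, 4, 3, 2, 0, 6, 5, 4, 3, 1, 2, 7]), (107, .next 1 [7, 6, 5, 4, 3, 1, 2, 0, 3, 2, 4, 3, 1, 5, 4, 3, 2, 0, 6, 5, 4, 3, 1, 2, 7, 6]),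
    (108, .next 1 [7, 6, 5, 4, 3, 1, 2, 0, 3, 2, 4, 3, 1, 5, 4, 3, 2, 0, 6, 5, 4, 3, 1, 2, 7, 6, 5]), (109, .next 1 [7, 6, 5, 4, 3, 1, 2, 0, 3, 2, 4, 3, 1, 5, 4, 3, 2, 0, 6, 5, 4, 3, 1, 2, 7, 6, 5, 4]), (110, .next 1 [7, 6, 5, 4, 3, 1, 2, 0, 3, 2, 4, 3, 1, 5, 4, 3, 2, 0, 6, 5, 4, 3, 1, 2, 3]), (111, .next 1 [7, 6, 5, 4, 3, 1, 2, 0, 3, 2, 4, 3, 1, 5, 4, 3, 2, 0, 6, 5, 4, 3, 1, 2, 3, 7]),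
    (112, .next 1 [7, 6, 5, 4, 3, 1, 2, 0, 3, 2, 4, 3, 1, 5, 4, 3, 2, 0, 6, 5, 4, 3, 1, 2, 3, 7, 6]), (113, .next 1 [7, 6, 5, 4, 3, 1, 2, 0, 3, 2, 4, 3, 1, 5, 4, 3, 2, 0, 6, 5, 4, 3, 1, 2, 3, 7, 6, 5]), (114, .next 1 [7, 6, 5, 4, 3, 1, 2, 0, 3, 2, 4, 3, 1, 5, 4, 3, 2, 0, 6, 5, 4, 3, 1, 2, 3, 4]), (115, .next 1 [7, 6, 5, 4, 3, 1, 2, 0, 3, 2, 4, 3, 1, 5, 4, 3, 2, 0, 6, 5, 4, 3, 1, 2, 3, 4, 7]),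
    (116, .next 1 [7, 6, 5, 4, 3, 1, 2, 0, 3, 2, 4, 3, 1, 5, 4, 3, 2, 0, 6, 5, 4, 3, 1, 2, 3, 4, 7, 6]), (117, .next 1 [7, 6, 5, 4, 3, 1, 2, 0, 3, 2, 4, 3, 1, 5, 4, 3, 2, 0, 6, 5, 4, 3, 1, 2, 3, 4, 5]), (118, .next 1 [7, 6, 5, 4, 3, 1, 2, 0, 3, 2, 4, 3, 1, 5, 4, 3, 2, 0, 6, 5, 4, 3, 1, 2, 3, 4, 5, 7]), (119, .next 1 [7, 6, 5, 4, 3, 1, 2, 0, 3, 2, 4, 3, 1, 5, 4, 3, 2, 0, 6, 5, 4, 3, 1, 2, 3, 4, 5, 6]),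
    (120, .next 1 [7, 6, 5, 4, 3, 1, 2, 0, 3, 2, 4, 3, 1, 5, 4, 3, 2, 0, 6, 5, 4, 3, 1, 2, 3, 4, 5, 6]), (121, .next 1 [7, 6, 5, 4, 3, 1, 2, 0, 3, 2, 4, 3, 1, 5, 4, 3, 2, 0, 6, 5, 4, 3, 1, 2, 3, 4, 5, 7]), (122, .next 1 [7, 6, 5, 4, 3, 1, 2, 0, 3, 2, 4, 3, 1, 5, 4, 3, 2, 0, 6, 5, 4, 3, 1, 2, 3, 4, 5]), (123, .next 1 [7, 6, 5, 4, 3, 1, 2, 0, 3, 2, 4, 3, 1, 5, 4, 3, 2, 0, 6, 5, 4, 3, 1, 2, 3, 4, 7, 6]),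
    (124, .next 1 [7, 6, 5, 4, 3, 1, 2, 0, 3, 2, 4, 3, 1, 5, 4, 3, 2, 0, 6, 5, 4, 3, 1, 2, 3, 4, 7]), (125, .next 1 [7, 6, 5, 4, 3, 1, 2, 0, 3, 2, 4, 3, 1, 5, 4, 3, 2, 0, 6, 5, 4, 3, 1, 2, 3, 4]), (126, .next 1 [7, 6, 5, 4, 3, 1, 2, 0, 3, 2, 4, 3, 1, 5, 4, 3, 2, 0, 6, 5, 4, 3, 1, 2, 3, 7, 6, 5]), (127, .next 1 [7, 6, 5, 4, 3, 1, 2, 0, 3, 2, 4, 3, 1, 5, 4, 3, 2, 0, 6, 5, 4, 3, 1, 2, 3, 7, 6]),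
    (128, .next 1 [7, 6, 5, 4, 3, 1, 2, 0, 3, 2, 4, 3, 1, 5, 4, 3, 2, 0, 6, 5, 4, 3, 1, 2, 3, 7]), (129, .next 1 [7, 6, 5, 4, 3, 1, 2, 0, 3, 2, 4, 3, 1, 5, 4, 3, 2, 0, 6, 5, 4, 3, 1, 2, 3]), (130, .next 1 [7, 6, 5, 4, 3, 1, 2, 0, 3, 2, 4, 3, 1, 5, 4, 3, 2, 0, 6, 5, 4, 3, 1, 2, 7, 6, 5, 4]), (131, .next 1 [7, 6, 5, 4, 3, 1, 2, 0, 3, 2, 4, 3, 1, 5, 4, 3, 2, 0, 6, 5, 4, 3, 1, 2, 7, 6, 5]),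
    (132, .next 1 [7, 6, 5, 4, 3, 1, 2, 0, 3, 2, 4, 3, 1, 5, 4, 3, 2, 0, 6, 5, 4, 3, 1, 2, 7, 6]), (133, .next 1 [7, 6, 5, 4, 3, 1, 2, 0, 3, 2, 4, 3, 1, 5, 4, 3, 2, 0, 6, 5, 4, 3, 1, 2, 7]), (134, .next 1 [7, 6, 5, 4, 3, 1, 2, 0, 3, 2, 4, 3, 1, 5, 4, 3, 2, 0, 6, 5, 4, 3, 1, 2]), (135, .next 1 [7, 6, 5, 4, 3, 1, 2, 0, 3, 2, 4, 3, 1, 5, 4, 3, 2, 0, 6, 5, 4, 3, 1, 7, 6, 5, 4, 3]),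
    (136, .next 1 [7, 6, 5, 4, 3, 1, 2, 0, 3, 2, 4, 3, 1, 5, 4, 3, 2, 0, 6, 5, 4, 3, 1, 7, 6, 5, 4]), (137, .next 1 [7, 6, 5, 4, 3, 1, 2, 0, 3, 2, 4, 3, 1, 5, 4, 3, 2, 0, 6, 5, 4, 3, 1, 7, 6, 5]), (138, .next 1 [7, 6, 5, 4, 3, 1, 2, 0, 3, 2, 4, 3, 1, 5, 4, 3, 2, 0, 6, 5, 4, 3, 1, 7, 6]), (139, .next 1 [7, 6, 5, 4, 3, 1, 2, 0, 3, 2, 4, 3, 1, 5, 4, 3, 2, 0, 6, 5, 4, 3, 1, 7]),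
    (140, .next 1 [7, 6, 5, 4, 3, 1, 2, 0, 3, 2, 4, 3, 1, 5, 4, 3, 2, 0, 6, 5, 4, 3, 1]), (141, .next 1 [7, 6, 5, 4, 3, 1, 2, 0, 3, 2, 4, 3, 1, 5, 4, 3, 2, 0, 6, 5, 4, 3, 2, 7, 6, 5, 4, 3]), (142, .next 1 [7, 6, 5, 4, 3, 1, 2, 0, 3, 2, 4, 3, 1, 5, 4, 3, 2, 0, 6, 5, 4, 3, 2, 7, 6, 5, 4]), (143, .next 1 [7, 6, 5, 4, 3, 1, 2, 0, 3, 2, 4, 3, 1, 5, 4, 3, 2, 0, 6, 5, 4, 3, 2, 7, 6, 5]),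
    (144, .next 1 [7, 6, 5, 4, 3, 1, 2, 0, 3, 2, 4, 3, 1, 5, 4, 3, 2, 0, 6, 5, 4, 3, 2, 7, 6]), (145, .next 1 [7, 6, 5, 4, 3, 1, 2, 0, 3, 2, 4, 3, 1, 5, 4, 3, 2, 0, 6, 5, 4, 3, 2, 7]), (146, .next 1 [7, 6, 5, 4, 3, 1, 2, 0, 3, 2, 4, 3, 1, 5, 4, 3, 2, 0, 6, 5, 4, 3, 2]), (147, .next 1 [7, 6, 5, 4, 3, 1, 2, 0, 3, 2, 4, 3, 1, 5, 4, 3, 2, 0, 6, 5, 4, 3, 7, 6, 5, 4]),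
    (148, .next 1 [7, 6, 5, 4, 3, 1, 2, 0, 3, 2, 4, 3, 1, 5, 4, 3, 2, 0, 6, 5, 4, 3, 7, 6, 5]), (149, .next 1 [7, 6, 5, 4, 3, 1, 2, 0, 3, 2, 4, 3, 1, 5, 4, 3, 2, 0, 6, 5, 4, 3, 7, 6]), (150, .next 1 [7, 6, 5, 4, 3, 1, 2, 0, 3, 2, 4, 3, 1, 5, 4, 3, 2, 0, 6, 5, 4, 3, 7]), (151, .next 1 [7, 6, 5, 4, 3, 1, 2, 0, 3, 2, 4, 3, 1, 5, 4, 3, 2, 0, 6, 5, 4, 3]),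
    (152, .next 1 [7, 6, 5, 4, 3, 1, 2, 0, 3, 2, 4, 3, 1, 5, 4, 3, 2, 0, 6, 5, 4, 7, 6, 5]), (153, .next 1 [7, 6, 5, 4, 3, 1, 2, 0, 3, 2, 4, 3, 1, 5, 4, 3, 2, 0, 6, 5, 4, 7, 6]), (154, .next 1 [7, 6, 5, 4, 3, 1, 2, 0, 3, 2, 4, 3, 1, 5, 4, 3, 2, 0, 6, 5, 4, 7]), (155, .next 1 [7, 6, 5, 4, 3, 1, 2, 0, 3, 2, 4, 3, 1, 5, 4, 3, 2, 0, 6, 5, 4]),
    (156, .next 1 [7, 6, 5, 4, 3, 1, 2, 0, 3, 2, 4, 3, 1, 5, 4, 3, 2, 0, 6, 5, 7, 6]), (157, .next 1 [7, 6, 5, 4, 3, 1, 2, 0, 3, 2, 4, 3, 1, 5, 4, 3, 2, 0, 6, 5, 7]), (158, .next 1 [7, 6, 5, 4, 3, 1, 2, 0, 3, 2, 4, 3, 1, 5, 4, 3, 2, 0, 6, 5]), (159, .next 1 [7, 6, 5, 4, 3, 1, 2, 0, 3, 2, 4, 3, 1, 5, 4, 3, 2, 0, 6, 7]),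
    (160, .next 1 [7, 6, 5, 4, 3, 1, 2, 0, 3, 2, 4, 3, 1, 5, 4, 3, 2, 0, 6]), (161, .next 1 [7, 6, 5, 4, 3, 1, 2, 0, 3, 2, 4, 3, 1, 5, 4, 3, 2, 0]), (162, .next 1 [7, 6, 5, 4, 3, 1, 2, 0, 3, 2, 4, 3, 1, 5, 4, 3, 2, 6, 5, 4, 3, 1, 7, 6, 5, 4, 3, 2]), (163, .next 1 [7, 6, 5, 4, 3, 1, 2, 0, 3, 2, 4, 3, 1, 5, 4, 3, 2, 6, 5, 4, 3, 1, 7, 6, 5, 4, 3]),
    (164, .next 1 [7, 6, 5, 4, 3, 1, 2, 0, 3, 2, 4, 3, 1, 5, 4, 3, 2, 6, 5, 4, 3, 1, 7, 6, 5, 4]), (165, .next 1 [7, 6, 5, 4, 3, 1, 2, 0, 3, 2, 4, 3, 1, 5, 4, 3, 2, 6, 5, 4, 3, 1, 7, 6, 5]), (166, .next 1 [7, 6, 5, 4, 3, 1, 2, 0, 3, 2, 4, 3, 1, 5, 4, 3, 2, 6, 5, 4, 3, 1, 7, 6]), (167, .next 1 [7, 6, 5, 4, 3, 1, 2, 0, 3, 2, 4, 3, 1, 5, 4, 3, 2, 6, 5, 4,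 3, 1, 7]),
    (168, .next 1 [7, 6, 5, 4, 3, 1, 2, 0, 3, 2, 4, 3, 1, 5, 4, 3, 2, 6, 5, 4, 3, 1]), (169, .next 1 [7, 6, 5, 4, 3, 1, 2, 0, 3, 2, 4, 3, 1, 5, 4, 3, 2, 6, 5, 4, 3, 7, 6, 5, 4]), (170, .next 1 [7, 6, 5, 4, 3, 1, 2, 0, 3, 2, 4, 3, 1, 5, 4, 3, 2, 6, 5, 4, 3, 7, 6, 5]), (171, .next 1 [7, 6, 5, 4, 3, 1, 2, 0, 3, 2, 4, 3, 1, 5, 4, 3, 2, 6, 5, 4, 3, 7, 6]),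
    (172, .next 1 [7, 6, 5, 4, 3, 1, 2, 0, 3, 2, 4, 3, 1, 5, 4, 3, 2, 6, 5, 4, 3, 7]), (173, .next 1 [7, 6, 5, 4, 3, 1, 2, 0, 3, 2, 4, 3, 1, 5, 4, 3, 2, 6, 5, 4, 3]), (174, .next 1 [7, 6, 5, 4, 3, 1, 2, 0, 3, 2, 4, 3, 1, 5, 4, 3, 2, 6, 5, 4, 7, 6, 5]), (175, .next 1 [7, 6, 5, 4, 3, 1, 2, 0, 3, 2, 4, 3, 1, 5, 4, 3, 2, 6, 5, 4, 7, 6]),
    (176, .next 1 [7, 6, 5, 4, 3, 1, 2, 0, 3, 2, 4, 3, 1, 5, 4, 3, 2, 6, 5, 4, 7]), (177, .next 1 [7, 6, 5, 4, 3, 1, 2, 0, 3, 2, 4, 3, 1, 5, 4, 3, 2, 6, 5, 4]), (178, .next 1 [7, 6, 5, 4, 3, 1, 2, 0, 3, 2, 4, 3, 1, 5, 4, 3, 2, 6, 5, 7, 6]), (179, .next 1 [7, 6, 5, 4, 3, 1, 2, 0, 3, 2, 4, 3, 1, 5, 4, 3, 2, 6, 5, 7]),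
    (180, .next 1 [7, 6, 5, 4, 3, 1, 2, 0, 3, 2, 4, 3, 1, 5, 4, 3, 2, 6, 5]), (181, .next 1 [7, 6, 5, 4, 3, 1, 2, 0, 3, 2, 4, 3, 1, 5, 4, 3, 2, 6, 7]), (182, .next 1 [7, 6, 5, 4, 3, 1, 2, 0, 3, 2, 4, 3, 1, 5, 4, 3, 2, 6]), (183, .next 1 [7, 6, 5, 4, 3, 1, 2, 0, 3, 2, 4, 3, 1, 5, 4, 3, 2]),
    (184, .next 1 [7, 6, 5, 4, 3, 1, 2, 0, 3, 2, 4, 3, 1, 5, 4, 3, 6, 5, 4, 7, 6, 5]), (185, .next 1 [7, 6, 5, 4, 3, 1, 2, 0, 3, 2, 4, 3, 1, 5, 4, 3, 6, 5, 4, 7, 6]), (186, .next 1 [7, 6, 5, 4, 3, 1, 2, 0, 3, 2, 4, 3, 1, 5, 4, 3, 6, 5, 4, 7]), (187, .next 1 [7, 6, 5, 4, 3, 1, 2, 0, 3, 2, 4, 3, 1, 5, 4, 3, 6, 5, 4]),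
    (188, .next 1 [7, 6, 5, 4, 3, 1, 2, 0, 3, 2, 4, 3, 1, 5, 4, 3, 6, 5, 7, 6]), (189, .next 1 [7, 6, 5, 4, 3, 1, 2, 0, 3, 2, 4, 3, 1, 5, 4, 3, 6, 5, 7]), (190, .next 1 [7, 6, 5, 4, 3, 1, 2, 0, 3, 2, 4, 3, 1, 5, 4, 3, 6, 5]), (191, .next 1 [7, 6, 5, 4, 3, 1, 2, 0, 3, 2, 4, 3, 1, 5, 4, 3, 6, 7]),
    (192, .next 1 [7, 6, 5, 4, 3, 1, 2, 0, 3, 2, 4, 3, 1, 5, 4, 3, 6]), (193, .next 1 [7, 6, 5, 4, 3, 1, 2, 0, 3, 2, 4, 3, 1, 5, 4, 3]), (194, .next 1 [7, 6, 5, 4, 3, 1, 2, 0, 3, 2, 4, 3, 1, 5, 4, 6, 5, 7, 6]), (195, .next 1 [7, 6, 5, 4, 3, 1, 2, 0, 3, 2, 4, 3, 1, 5, 4, 6, 5, 7]),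
    (196, .next 1 [7, 6, 5, 4, 3, 1, 2, 0, 3, 2, 4, 3, 1, 5, 4, 6, 5]), (197, .next 1 [7, 6, 5, 4, 3, 1, 2, 0, 3, 2, 4, 3, 1, 5, 4, 6, 7]), (198, .next 1 [7, 6, 5, 4, 3, 1, 2, 0, 3, 2, 4, 3, 1, 5, 4, 6]), (199, .next 1 [7, 6, 5, 4, 3, 1, 2, 0, 3, 2, 4, 3, 1, 5, 4]),
    (200, .next 1 [7, 6, 5, 4, 3, 1, 2, 0, 3, 2, 4, 3, 1, 5, 6, 7]), (201, .next 1 [7, 6, 5, 4, 3, 1, 2, 0, 3, 2, 4, 3, 1, 5, 6]), (202, .next 1 [7, 6, 5, 4, 3, 1, 2, 0, 3, 2, 4, 3, 1, 5]), (203, .next 1 [7, 6, 5, 4, 3, 1, 2, 0, 3, 2, 4, 3, 1]),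
    (204, .next 1 [7, 6, 5, 4, 3, 1, 2, 0, 3, 2, 4, 3, 5, 4, 6, 5, 7, 6]), (205, .next 1 [7, 6, 5, 4, 3, 1, 2, 0, 3, 2, 4, 3, 5, 4, 6, 5, 7]), (206, .next 1 [7, 6, 5, 4, 3, 1, 2, 0, 3, 2, 4, 3, 5, 4, 6, 5]), (207, .next 1 [7, 6, 5, 4, 3, 1, 2, 0, 3, 2, 4, 3, 5, 4, 6, 7]),
    (208, .next 1 [7, 6, 5, 4, 3, 1, 2, 0, 3, 2, 4, 3, 5, 4, 6]), (209, .next 1 [7, 6, 5, 4, 3, 1, 2, 0, 3, 2, 4, 3, 5, 4]), (210, .next 1 [7, 6, 5, 4, 3, 1, 2, 0, 3, 2, 4, 3, 5, 6, 7]), (211, .next 1 [7, 6, 5, 4, 3, 1, 2, 0, 3, 2, 4, 3, 5, 6]),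
    (212, .next 1 [7, 6, 5, 4, 3, 1, 2, 0, 3, 2, 4, 3, 5]), (213, .next 1 [7, 6, 5, 4, 3, 1, 2, 0, 3, 2, 4, 3]), (214, .next 1 [7, 6, 5, 4, 3, 1, 2, 0, 3, 2, 4, 5, 6, 7]), (215, .next 1 [7, 6, 5, 4, 3, 1, 2, 0, 3, 2, 4, 5, 6]),
    (216, .next 1 [7, 6, 5, 4, 3, 1, 2, 0, 3, 2, 4, 5]), (217, .next 1 [7, 6, 5, 4, 3, 1, 2, 0, 3, 2, 4]), (218, .next 1 [7, 6, 5, 4, 3, 1, 2, 0, 3, 2]), (219, .next 1 [7, 6, 5, 4, 3, 1, 2, 0, 3, 4, 5, 6, 7]),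
    (220, .next 1 [7, 6, 5, 4, 3, 1, 2, 0, 3, 4, 5, 6]), (221, .next 1 [7, 6, 5, 4, 3, 1, 2, 0, 3, 4, 5]), (222, .next 1 [7, 6, 5, 4, 3, 1, 2, 0, 3, 4]), (223, .next 1 [7, 6, 5, 4, 3, 1, 2, 0, 3]),
    (224, .next 1 [7, 6, 5, 4, 3, 1, 2, 0]), (225, .next 1 [7, 6, 5, 4, 3, 2, 0]), (226, .next 1 [7, 6, 5, 4, 3, 1, 2, 3, 4, 5, 6, 7]), (227, .next 1 [7, 6, 5, 4, 3, 1, 2, 3, 4, 5, 6]),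
    (228, .next 1 [7, 6, 5, 4, 3, 1, 2, 3, 4, 5]), (229, .next 1 [7, 6, 5, 4, 3, 1, 2, 3, 4]), (230, .next 1 [7, 6, 5, 4, 3, 1, 2, 3]), (231, .next 1 [7, 6, 5, 4, 3, 1, 2]),
    (232, .next 1 [7, 6, 5, 4, 3, 1]), (233, .next 1 [7, 6, 5, 4, 3, 2]), (234, .next 1 [7, 6, 5, 4, 3]), (235, .next 1 [7, 6, 5, 4]),
    (236, .next 1 [7, 6, 5]), (237, .next 1 [7, 6]), (238, .next 1 [7]), (239, .next 1 [])]⟩,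
  ⟨[0], 0, 1, [
    (13, .next 2 []), (20, .next 2 [0]), (25, .next 2 [0, 2]), (29, .next 2 [0, 2, 3]),
    (32, .next 2 [0, 2, 3, 4]), (34, .next 2 [0, 2, 3, 4, 5]), (35, .next 2 [0, 2, 3, 4, 5, 6]), (39, .next 2 [0, 2, 3, 1]),
    (42, .next 2 [0, 2, 3, 1, 4]), (44, .next 2 [0, 2, 3, 1, 4, 5]), (45, .next 2 [0, 2, 3, 1, 4, 5, 6]), (48, .next 2 [0, 2, 3, 1, 4, 3]),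
    (50, .next 2 [0, 2, 3, 1, 4, 3, 5]), (51, .next 2 [0, 2, 3, 1, 4, 3, 5, 6]), (53, .next 2 [0, 2, 3, 1, 4, 3, 5, 4]), (54, .next 2 [0, 2, 3, 1, 4, 3, 5, 4, 6]),
    (55, .next 2 [0, 2, 3, 1, 4, 3, 5, 4, 6, 5]), (58, .next 2 [0, 2, 3, 1, 4, 3, 2]), (60, .next 2 [0, 2, 3, 1, 4, 3, 2, 5]), (61, .next 2 [0, 2, 3, 1, 4, 3, 2, 5, 6]),
    (63, .next 2 [0, 2, 3, 1, 4, 3, 2, 5, 4]), (64, .next 2 [0, 2, 3, 1, 4, 3, 2, 5, 4, 6]), (65, .next 2 [0, 2, 3, 1, 4, 3, 2, 5, 4, 6, 5]), (67, .next 2 [0, 2, 3, 1, 4, 3, 2, 5, 4, 3]),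
    (68, .next 2 [0, 2, 3, 1, 4, 3, 2, 5, 4, 3, 6]), (69, .next 2 [0, 2, 3, 1, 4, 3, 2, 5, 4, 3, 6, 5]), (70, .next 2 [0, 2, 3, 1, 4, 3, 2, 5, 4, 3, 6, 5, 4]), (72, .next 2 [0, 2, 3, 1, 4, 3, 2, 5, 4, 3, 1]),
    (73, .next 2 [0, 2, 3, 1, 4, 3, 2, 5, 4, 3, 1, 6]), (74, .next 2 [0, 2, 3, 1, 4, 3, 2, 5, 4, 3, 1, 6, 5]), (75, .next 2 [0, 2, 3, 1, 4, 3, 2, 5, 4, 3, 1, 6, 5, 4]), (76, .next 2 [0, 2, 3, 1, 4, 3, 2, 5, 4, 3, 1, 6, 5, 4, 3]),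
    (77, .next 2 [0, 2, 3, 1, 4, 3, 2, 5, 4, 3, 1, 6, 5, 4, 3, 2]), (80, .next 2 [0, 2, 3, 1, 4, 3, 2, 0]), (82, .next 2 [0, 2, 3, 1, 4, 3, 2, 0, 5]), (83, .next 2 [0, 2, 3, 1, 4, 3, 2, 0, 5, 6]),
    (85, .next 2 [0, 2, 3, 1, 4, 3, 2, 0, 5, 4]), (86, .next 2 [0, 2, 3, 1, 4, 3, 2, 0, 5, 4, 6]), (87, .next 2 [0, 2, 3, 1, 4, 3, 2, 0, 5, 4, 6, 5]), (89, .next 2 [0, 2, 3, 1, 4, 3, 2, 0, 5, 4, 3]),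
    (90, .next 2 [0, 2, 3, 1, 4, 3, 2, 0, 5, 4, 3, 6]), (91, .next 2 [0, 2, 3, 1, 4, 3, 2, 0, 5, 4, 3, 6, 5]), (92, .next 2 [0, 2, 3, 1, 4, 3, 2, 0, 5, 4, 3, 6, 5, 4]), (94, .next 2 [0, 2, 3, 1, 4, 3, 2, 0, 5, 4, 3, 2]),
    (95, .next 2 [0, 2, 3, 1, 4, 3, 2, 0, 5, 4, 3, 2, 6]), (96, .next 2 [0, 2, 3, 1, 4, 3, 2, 0, 5, 4, 3, 2, 6, 5]), (97, .next 2 [0, 2, 3, 1, 4, 3, 2, 0, 5, 4, 3, 2, 6, 5, 4]), (98, .next 2 [0, 2, 3, 1, 4, 3, 2, 0, 5, 4, 3, 2, 6, 5, 4, 3]),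
    (100, .next 2 [0, 2, 3, 1, 4, 3, 2, 0, 5, 4, 3, 1]), (101, .next 2 [0, 2, 3, 1, 4, 3, 2, 0, 5, 4, 3, 1, 6]), (102, .next 2 [0, 2, 3, 1, 4, 3, 2, 0, 5, 4, 3, 1, 6, 5]), (103, .next 2 [0, 2, 3, 1, 4, 3, 2, 0, 5, 4, 3, 1, 6, 5, 4]),
    (104, .next 2 [0, 2, 3, 1, 4, 3, 2, 0, 5, 4, 3, 1, 6, 5, 4, 3]), (106, .next 2 [0, 2, 3, 1, 4, 3, 2, 0, 5, 4, 3, 1, 2]), (107, .next 2 [0, 2, 3, 1, 4, 3, 2, 0, 5, 4, 3, 1, 2, 6]), (108, .next 2 [0, 2, 3, 1, 4, 3, 2, 0, 5, 4, 3, 1, 2, 6, 5]),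
    (109, .next 2 [0, 2, 3, 1, 4, 3, 2, 0, 5, 4, 3, 1, 2, 6, 5, 4]), (111, .next 2 [0, 2, 3, 1, 4, 3, 2, 0, 5, 4, 3, 1, 2, 3]), (112, .next 2 [0, 2, 3, 1, 4, 3, 2, 0, 5, 4, 3, 1, 2, 3, 6]), (113, .next 2 [0, 2, 3, 1, 4, 3, 2, 0, 5, 4, 3, 1, 2, 3, 6, 5]),
    (115, .next 2 [0, 2, 3, 1, 4, 3, 2, 0, 5, 4, 3, 1, 2, 3, 4]), (116, .next 2 [0, 2, 3, 1, 4, 3, 2, 0, 5, 4, 3, 1, 2, 3, 4, 6]), (118, .next 2 [0, 2, 3, 1, 4, 3, 2, 0, 5, 4, 3, 1, 2, 3, 4, 5]), (121, .next 2 [0, 2, 3, 1, 4, 3, 2, 0, 5, 4, 3, 1, 2, 3, 4, 5]),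
    (123, .next 2 [0, 2, 3, 1, 4, 3, 2, 0, 5, 4, 3, 1, 2, 3, 4, 6]), (124, .next 2 [0, 2, 3, 1, 4, 3, 2, 0, 5, 4, 3, 1, 2, 3, 4]), (126, .next 2 [0, 2, 3, 1, 4, 3, 2, 0, 5, 4, 3, 1, 2, 3, 6, 5]), (127, .next 2 [0, 2, 3, 1, 4, 3, 2, 0, 5, 4, 3, 1, 2, 3, 6]),
    (128, .next 2 [0, 2, 3, 1, 4, 3, 2, 0, 5, 4, 3, 1, 2, 3]), (130, .next 2 [0, 2, 3, 1, 4, 3, 2, 0, 5, 4, 3, 1, 2, 6, 5, 4]), (131, .next 2 [0, 2, 3, 1, 4, 3, 2, 0, 5, 4, 3, 1, 2, 6, 5]), (132, .next 2 [0, 2, 3, 1, 4, 3, 2, 0, 5, 4, 3, 1, 2, 6]),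
    (133, .next 2 [0, 2, 3, 1, 4, 3, 2, 0, 5, 4, 3, 1, 2]), (135, .next 2 [0, 2, 3, 1, 4, 3, 2, 0, 5, 4, 3, 1, 6, 5, 4, 3]), (136, .next 2 [0, 2, 3, 1, 4, 3, 2, 0, 5, 4, 3, 1, 6, 5, 4]), (137, .next 2 [0, 2, 3, 1, 4, 3, 2, 0, 5, 4, 3, 1, 6, 5]),
    (138, .next 2 [0, 2, 3, 1, 4, 3, 2, 0, 5, 4, 3, 1, 6]), (139, .next 2 [0, 2, 3, 1, 4, 3, 2, 0, 5, 4, 3, 1]), (141, .next 2 [0, 2, 3, 1, 4, 3, 2, 0, 5, 4, 3, 2, 6, 5, 4, 3]), (142, .next 2 [0, 2, 3, 1, 4, 3, 2, 0, 5, 4, 3, 2, 6, 5, 4]),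
    (143, .next 2 [0, 2, 3, 1, 4, 3, 2, 0, 5, 4, 3, 2, 6, 5]), (144, .next 2 [0, 2, 3, 1, 4, 3, 2, 0, 5, 4, 3, 2, 6]), (145, .next 2 [0, 2, 3, 1, 4, 3, 2, 0, 5, 4, 3, 2]), (147, .next 2 [0, 2, 3, 1, 4, 3, 2, 0, 5, 4, 3, 6, 5, 4]),
    (148, .next 2 [0, 2, 3, 1, 4, 3, 2, 0, 5, 4, 3, 6, 5]), (149, .next 2 [0, 2, 3, 1, 4, 3, 2, 0, 5, 4, 3, 6]), (150, .next 2 [0, 2, 3, 1, 4, 3, 2, 0, 5, 4, 3]), (152, .next 2 [0, 2, 3, 1, 4, 3, 2, 0, 5, 4, 6, 5]),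
    (153, .next 2 [0, 2, 3, 1, 4, 3, 2, 0, 5, 4, 6]), (154, .next 2 [0, 2, 3, 1, 4, 3, 2, 0, 5, 4]), (156, .next 2 [0, 2, 3, 1, 4, 3, 2, 0, 5, 6]), (157, .next 2 [0, 2, 3, 1, 4, 3, 2, 0, 5]),
    (159, .next 2 [0, 2, 3, 1, 4, 3, 2, 0]), (162, .next 2 [0, 2, 3, 1, 4, 3, 2, 5, 4, 3, 1, 6, 5, 4, 3, 2]), (163, .next 2 [0, 2, 3, 1, 4, 3, 2, 5, 4, 3, 1, 6, 5, 4, 3]), (164, .next 2 [0, 2, 3, 1, 4, 3, 2, 5, 4, 3, 1, 6, 5, 4]),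
    (165, .next 2 [0, 2, 3, 1, 4, 3, 2, 5, 4, 3, 1, 6, 5]), (166, .next 2 [0, 2, 3, 1, 4, 3, 2, 5, 4, 3, 1, 6]), (167, .next 2 [0, 2, 3, 1, 4, 3, 2, 5, 4, 3, 1]), (169, .next 2 [0, 2, 3, 1, 4, 3, 2, 5, 4, 3, 6, 5, 4]),
    (170, .next 2 [0, 2, 3, 1, 4, 3, 2, 5, 4, 3, 6, 5]), (171, .next 2 [0, 2, 3, 1, 4, 3, 2, 5, 4, 3, 6]), (172, .next 2 [0, 2, 3, 1, 4, 3, 2, 5, 4, 3]), (174, .next 2 [0, 2, 3, 1, 4, 3, 2, 5, 4, 6, 5]),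
    (175, .next 2 [0, 2, 3, 1, 4, 3, 2, 5, 4, 6]), (176, .next 2 [0, 2, 3, 1, 4, 3, 2, 5, 4]), (178, .next 2 [0, 2, 3, 1, 4, 3, 2, 5, 6]), (179, .next 2 [0, 2, 3, 1, 4, 3, 2, 5]),
    (181, .next 2 [0, 2, 3, 1, 4, 3, 2]), (184, .next 2 [0, 2, 3, 1, 4, 3, 5, 4, 6, 5]), (185, .next 2 [0, 2, 3, 1, 4, 3, 5, 4, 6]), (186, .next 2 [0, 2, 3, 1, 4, 3, 5, 4]),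
    (188, .next 2 [0, 2, 3, 1, 4, 3, 5, 6]), (189, .next 2 [0, 2, 3, 1, 4, 3, 5]), (191, .next 2 [0, 2, 3, 1, 4, 3]), (194, .next 2 [0, 2, 3, 1, 4, 5, 6]),
    (195, .next 2 [0, 2, 3, 1, 4, 5]), (197, .next 2 [0, 2, 3, 1, 4]), (200, .next 2 [0, 2, 3, 1]), (204, .next 2 [0, 2, 3, 4, 5, 6]),
    (205, .next 2 [0, 2, 3, 4, 5]), (207, .next 2 [0, 2, 3, 4]), (210, .next 2 [0, 2, 3]), (214, .next 2 [0, 2]),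
    (219, .next 2 [0]), (226, .next 2 [])]⟩,
  ⟨[13, 0], 13, 20, [
    (80, .next 3 []), (82, .next 3 [5]), (83, .next 3 [5, 6]), (85, .next 3 [5, 4]),
    (86, .next 3 [5, 4, 6]), (87, .next 3 [5, 4, 6, 5]), (89, .next 3 [5, 4, 3]), (90, .next 3 [5, 4, 3, 6]),
    (91, .next 3 [5, 4, 3, 6, 5]), (92, .next 3 [5, 4, 3, 6, 5, 4]), (94, .next 3 [5, 4, 3, 2]), (95, .next 3 [5, 4, 3, 2, 6]),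
    (96, .next 3 [5, 4, 3, 2, 6, 5]), (97, .next 3 [5, 4, 3, 2, 6, 5, 4]), (98, .next 3 [5, 4, 3, 2, 6, 5, 4, 3]), (100, .next 3 [5, 4, 3, 1]),
    (101, .next 3 [5, 4, 3, 1, 6]), (102, .next 3 [5, 4, 3, 1, 6, 5]), (103, .next 3 [5, 4, 3, 1, 6, 5, 4]), (104, .next 3 [5, 4, 3, 1, 6, 5, 4, 3]),
    (106, .next 3 [5, 4, 3, 1, 2]), (107, .next 3 [5, 4, 3, 1, 2, 6]), (108, .next 3 [5, 4, 3, 1, 2, 6, 5]), (109, .next 3 [5, 4, 3, 1, 2, 6, 5, 4]),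
    (111, .next 3 [5, 4, 3, 1, 2, 3]), (112, .next 3 [5, 4, 3, 1, 2, 3, 6]), (113, .next 3 [5, 4, 3, 1, 2, 3, 6, 5]), (115, .next 3 [5, 4, 3, 1, 2, 3, 4]),
    (116, .next 3 [5, 4, 3, 1, 2, 3, 4, 6]), (118, .next 3 [5, 4, 3, 1, 2, 3, 4, 5]), (121, .next 3 [5, 4, 3, 1, 2, 3, 4, 5]), (123, .next 3 [5, 4, 3, 1, 2, 3, 4, 6]),
    (124, .next 3 [5, 4, 3, 1, 2, 3, 4]), (126, .next 3 [5, 4, 3, 1, 2, 3, 6, 5]), (127, .next 3 [5, 4, 3, 1, 2, 3, 6]), (128, .next 3 [5, 4, 3, 1, 2, 3]),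
    (130, .next 3 [5, 4, 3, 1, 2, 6, 5, 4]), (131, .next 3 [5, 4, 3, 1, 2, 6, 5]), (132, .next 3 [5, 4, 3, 1, 2, 6]), (133, .next 3 [5, 4, 3, 1, 2]),
    (135, .next 3 [5, 4, 3, 1, 6, 5, 4, 3]), (136, .next 3 [5, 4, 3, 1, 6, 5, 4]), (137, .next 3 [5, 4, 3, 1, 6, 5]), (138, .next 3 [5, 4, 3, 1, 6]),
    (139, .next 3 [5, 4, 3, 1]), (141, .next 3 [5, 4, 3, 2, 6, 5, 4, 3]), (142, .next 3 [5, 4, 3, 2, 6, 5, 4]), (143, .next 3 [5, 4, 3, 2, 6, 5]),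
    (144, .next 3 [5, 4, 3, 2, 6]), (145, .next 3 [5, 4, 3, 2]), (147, .next 3 [5, 4, 3, 6, 5, 4]), (148, .next 3 [5, 4, 3, 6, 5]),
    (149, .next 3 [5, 4, 3, 6]), (150, .next 3 [5, 4, 3]), (152, .next 3 [5, 4, 6, 5]), (153, .next 3 [5, 4, 6]),
    (154, .next 3 [5, 4]), (156, .next 3 [5, 6]), (157, .next 3 [5]), (159, .next 3 [])]⟩,
  ⟨[80, 13, 0], 80, 82, [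
    (87, .next 4 []), (91, .next 4 [3]), (92, .next 4 [3, 4]), (96, .next 4 [3, 2]),
    (97, .next 4 [3, 2, 4]), (98, .next 4 [3, 2, 4, 3]), (102, .next 4 [3, 1]), (103, .next 4 [3, 1, 4]),
    (104, .next 4 [3, 1, 4, 3]), (108, .next 4 [3, 1, 2]), (109, .next 4 [3, 1, 2, 4]), (113, .next 4 [3, 1, 2, 3]),
    (118, .bad 238 0 2 [(-1), (-1), (-1), (-1)]), (121, .bad 237 0 2 [(-1), (-1), (-1), (-1)]), (126, .next 4 [3, 1, 2, 3]), (130, .next 4 [3, 1, 2, 4]),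
    (131, .next 4 [3, 1, 2]), (135, .next 4 [3, 1, 4, 3]), (136, .next 4 [3, 1, 4]), (137, .next 4 [3, 1]),
    (141, .next 4 [3, 2, 4, 3]), (142, .next 4 [3, 2, 4]), (143, .next 4 [3, 2]), (147, .next 4 [3, 4]),
    (148, .next 4 [3]), (152, .next 4 [])]⟩,
  ⟨[87, 80, 13, 0], 87, 91, [
    (98, .bad 225 0 2 [(-1), (-1), (-1), 0, (-1)]), (104, .bad 219 0 2 [(-1), (-1), (-1), (-1), 0]), (113, .bad 236 0 2 [(-1), (-1), 0, (-1), (-1)]), (118, .bad 238 0 2 [(-1), 0, (-1), (-1), (-1)]),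
    (121, .bad 237 0 2 [(-1), 0, (-1), (-1), (-1)]), (126, .bad 235 0 2 [(-1), (-1), 0, (-1), (-1)]), (135, .bad 214 0 2 [(-1), (-1), (-1), (-1), 0]), (141, .bad 224 0 2 [(-1), (-1), (-1), 0, (-1)])]⟩]

theorem involE8_ok : certOk chevE8 Weyl.reflTableE8 involCertE8 = true := by
  decide +kernel

end CfsgLib.ChevOddInvol
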