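import Cfsg.Agent.ChevOddInvol.Weyl
import Cfsg.Agent.Weyl.RootF4
import Cfsg.Agent.Chevalley.WeylData

/-! The certificate of `InvolGood` for type F4 (generated table, checked by the kernel). -/

set_option autoImplicit false
set_option maxHeartbeats 1000000

namespace CfsgLib.ChevOddInvol

open Cfsg.Lie

/-- The certificate. -/
def involCertF4 : List RepData := [
  ⟨[], 0, 0, [
    (0, .next 1 []), (1, .next 1 [3]), (2, .next 1 [3, 2]), (3, .next 2 []),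
    (4, .next 1 [3, 2, 1]), (5, .next 1 [3, 2, 1, 2]), (6, .next 1 [3, 2, 1, 2, 3]), (7, .next 2 [0]),
    (8, .next 2 [0, 1]), (9, .next 2 [0, 1, 2]), (10, .next 2 [0, 1, 2, 3]), (11, .next 2 [0, 1, 2, 1]),
    (12, .next 2 [0, 1, 2, 1, 3]), (13, .next 2 [0, 1, 2, 1, 3, 2]), (14, .next 2 [0, 1, 2, 1, 3, 2, 1]), (15, .next 1 [3, 2, 1, 0]),
    (16, .next 1 [3, 2, 1, 0, 2]), (17, .next 1 [3, 2, 1, 0, 2, 3]), (18, .next 2 [0, 1, 2, 1, 0]), (19, .next 2 [0, 1, 2, 1, 0, 3]),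
    (20, .next 2 [0, 1, 2, 1, 0, 3, 2]), (21, .next 1 [3, 2, 1, 0, 2, 1]), (22, .next 1 [3, 2, 1, 0, 2, 1, 3]), (23, .next 1 [3, 2, 1, 0, 2, 1, 2]),
    (24, .next 1 [3, 2, 1, 0, 2, 1, 2]), (25, .next 1 [3, 2, 1, 0, 2, 1, 3]), (26, .next 1 [3, 2, 1, 0, 2, 1]), (27, .next 2 [0, 1, 2, 1, 0, 3, 2]),
    (28, .next 2 [0, 1, 2, 1, 0, 3]), (29, .next 2 [0, 1, 2, 1, 0]), (30, .next 1 [3, 2, 1, 0, 2, 3]), (31, .next 1 [3, 2, 1, 0, 2]),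
    (32, .next 1 [3, 2, 1, 0]), (33, .next 2 [0, 1, 2, 1, 3, 2, 1]), (34, .next 2 [0, 1, 2, 1, 3, 2]), (35, .next 2 [0, 1, 2, 1, 3]),
    (36, .next 2 [0, 1, 2, 1]), (37, .next 2 [0, 1, 2, 3]), (38, .next 2 [0, 1, 2]), (39, .next 2 [0, 1]),
    (40, .next 2 [0]), (41, .next 1 [3, 2, 1, 2, 3]), (42, .next 1 [3, 2, 1, 2]), (43, .next 1 [3, 2, 1]),
    (44, .next 2 []), (45, .next 1 [3, 2]), (46, .next 1 [3]), (47, .next 1 [])]⟩,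
  ⟨[0], 0, 1, [
    (6, .bad 44 0 1 [(-1), (-1)]), (10, .next 3 []), (12, .next 3 [1]), (13, .next 3 [1, 2]),
    (14, .next 3 [1, 2, 1]), (17, .bad 40 0 1 [(-1), (-1)]), (19, .next 3 [1, 0]), (20, .next 3 [1, 0, 2]),
    (22, .bad 39 0 1 [(-1), (-1)]), (25, .bad 38 0 1 [(-1), (-1)]), (27, .next 3 [1, 0, 2]), (28, .next 3 [1, 0]),
    (30, .bad 36 0 1 [(-1), (-1)]), (33, .next 3 [1, 2, 1]), (34, .next 3 [1, 2]), (35, .next 3 [1]),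
    (37, .next 3 []), (41, .bad 29 0 1 [(-1), (-1)])]⟩,
  ⟨[3], 3, 7, [
    (15, .next 3 [3, 2, 1, 0]), (16, .next 3 [3, 2, 1, 0, 2]), (17, .next 3 [3, 2, 1, 0, 2, 3]), (18, .bad 47 0 2 [(-1), (-1)]),
    (19, .bad 46 0 2 [(-1), (-1)]), (20, .bad 45 0 2 [(-1), (-1)]), (21, .next 3 [3, 2, 1, 0, 2, 1]), (22, .next 3 [3, 2, 1, 0, 2, 1, 3]),
    (23, .next 3 [3, 2, 1, 0, 2, 1, 2]), (24, .next 3 [3, 2, 1, 0, 2, 1, 2]), (25, .next 3 [3, 2, 1, 0, 2, 1, 3]), (26, .next 3 [3, 2, 1, 0, 2, 1]),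
    (27, .bad 43 0 2 [(-1), (-1)]), (28, .bad 42 0 2 [(-1), (-1)]), (29, .bad 41 0 2 [(-1), (-1)]), (30, .next 3 [3, 2, 1, 0, 2, 3]),
    (31, .next 3 [3, 2, 1, 0, 2]), (32, .next 3 [3, 2, 1, 0])]⟩,
  ⟨[10, 0], 10, 12, [
    (14, .bad 44 0 2 [(-1), (-1), (-2)]), (22, .bad 39 0 1 [(-1), 0, (-1)]), (25, .bad 38 0 1 [(-1), 0, (-1)]), (33, .bad 40 0 2 [(-1), (-1), (-2)])]⟩]

theorem involF4_ok : certOk chevF4 Weyl.reflTableF4 involCertF4 = true := by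
  decide +kernel

end CfsgLib.ChevOddInvol
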