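import Cfsg.Agent.ChevOddInvol.Weyl
import Cfsg.Agent.Weyl.RootG2
import Cfsg.Agent.Chevalley.WeylData

/-! The certificate of `InvolGood` for type G2 (generated table, checked by the kernel). -/

set_option autoImplicit false
set_option maxHeartbeats 1000000

namespace CfsgLib.ChevOddInvol

open Cfsg.Lie

/-- The certificate. -/
def involCertG2 : List RepData := [
  ⟨[], 0, 0, [
    (0, .next 1 []), (1, .next 1 [1]), (2, .next 2 []), (3, .next 2 [0]),
    (4, .next 2 [0, 1]), (5, .next 1 [1, 0]), (6, .next 1 [1, 0]), (7, .next 2 [0, 1]),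
    (8, .next 2 [0]), (9, .next 2 []), (10, .next 1 [1]), (11, .next 1 [])]⟩,
  ⟨[0], 0, 1, [
    (4, .bad 10 0 2 [(-1), (-1)]), (7, .bad 6 0 2 [(-1), (-1)])]⟩,
  ⟨[2], 2, 3, [
    (5, .bad 11 0 2 [(-1), (-1)]), (6, .bad 10 0 2 [(-1), (-1)])]⟩]

theorem involG2_ok : certOk chevG2 Weyl.reflTableG2 involCertG2 = true := by
  decide +kernel

end CfsgLib.ChevOddInvol
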