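import Cfsg.Agent.ChevOddInvol.Stab
import Cfsg.Agent.Weyl.RootG2
import Cfsg.Agent.Chevalley.WeylData

/-! Sign vectors and stabilizer chains for type G2 (generated tables, checked by the kernel). -/

set_option autoImplicit false
set_option maxHeartbeats 2000000

namespace CfsgLib.ChevOddInvol

open Cfsg.Lie

/-- The parities of the roots. -/
def masksG2 : List ℕ := [
  1, 3, 2, 3, 1, 2, 2, 1, 3, 2, 3, 1]

/-- The steps towards the representatives. -/
def pathG2 : List (ℕ × ℕ) := [
  (0, 0), (0, 0), (1, 3), (0, 1)]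

/-- The distances to the representatives. -/
def potG2 : List ℕ := [
  0, 0, 2, 1]

/-- The chain of the stabilizer of the sign vector `1`. -/
def subG2_0 : SubData where
  words := [[1], [0, 1, 0, 1, 0]]
  fm := 0x264
  orbit := [
    1, 3, 2]
  levels := [
    ⟨[[], [0]],
      0x0,
      [0, 0, 16, 0, 0, 15, 17, 0, 0, 16, 0, 0],
      [0x40f450,
      0x4113d0]⟩,
    ⟨[[], [1]],
      0x60,
      [0, 0, 15, 0, 0, 16, 16, 0, 0, 17, 0, 0],
      [0x3d0411,
      0x45040f]⟩]

theorem maskG2_ok : maskOk chevG2 masksG2 = true := by decide +kernel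

theorem fuseG2_ok : fuseOk chevG2 masksG2 [1] pathG2 = true := by decide +kernel

theorem potG2_ok : potOk chevG2 [1] pathG2 potG2 = true := by decide +kernel

theorem stabG2_0_ok :
    stabOk chevG2 Weyl.reflTableG2 Weyl.certG2 masksG2 1 pathG2 potG2 subG2_0
      [2, 2] = true := by
  decide +kernel

end CfsgLib.ChevOddInvol
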