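import Cfsg.Agent.ChevOddInvol.DataE8

/-! Kernel check of the tables for type E8 (Fuse). -/

set_option autoImplicit false
set_option maxHeartbeats 2000000

namespace CfsgLib.ChevOddInvol

open Cfsg.Lie

theorem fuseE8_ok : fuseOk chevE8 masksE8 [1, 4] pathE8 = true := by decide +kernel

theorem potE8_ok : potOk chevE8 [1, 4] pathE8 potE8 = true := by decide +kernel

end CfsgLib.ChevOddInvol
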