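import Cfsg.Agent.ChevOddInvol.DataE8

/-! Kernel check of the tables for type E8 (Stab1). -/

set_option autoImplicit false
set_option maxHeartbeats 2000000

namespace CfsgLib.ChevOddInvol

open Cfsg.Lie

theorem stabE8_1_ok :
    stabOk chevE8 Weyl.reflTableE8 Weyl.certE8 masksE8 4 pathE8 potE8 subE8_1
      [2, 2, 6, 8, 10, 12, 14, 18] = true := by
  decide +kernel

end CfsgLib.ChevOddInvol
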