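import Cfsg.Agent.ChevOddInvol.Stab
import Cfsg.Agent.Chevalley.WeylData

/-!
# Involution classes and centralizer orders in odd characteristic
-/

set_option autoImplicit false

namespace CfsgLib.ChevOddInvol

open Cfsg.Lie CfsgLib.Chevalley

theorem two_ne_zero_of_odd {F : Type*} [Field F] [Fintype F] (hF : Odd (Fintype.card F)) :
    (2 : F) ≠ 0 :=
  Ring.two_ne_zero fun e => by
    have := FiniteField.even_card_of_char_two e
    rw [Nat.odd_iff] at hF
    omega

/-- A product of geometric sums times the torus order. -/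
theorem geom_prod_mul (q : ℕ) (hq : 1 ≤ q) : ∀ degs : List ℕ,
    (q - 1) ^ degs.length * (degs.map fun d => ∑ i ∈ Finset.range d, q ^ i).prod =
      (degs.map fun d => q ^ d - 1).prod := by
  intro degs
  induction degs with
  | nil => simp
  | cons d degs ih =>
    have e : (q - 1) * ∑ i ∈ Finset.range d, q ^ i = q ^ d - 1 := by
      have h1 := geom_sum_mul_of_one_le hq d
      rw [mul_comm]
      exact h1
    simp only [List.length_cons, List.map_cons, List.prod_cons, pow_succ]
    rw [← ih, ← e]
    ring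

variable {D : ChevalleyDatum} {C : Weyl.Cert D.rank} {M : CoxeterMatrix (Fin D.rank)}
  {R : Weyl.RootTable} {F : Type*} [Field F] [Fintype F]

/-- The data of a type: the Smith form of the Cartan matrix with unit invariants. -/
def Unimodular (D : ChevalleyDatum) : Prop :=
  ∃ (P P' Q Q' : Matrix (Fin D.rank) (Fin D.rank) ℤ) (d : Fin D.rank → ℕ),
    (P * P' = 1 ∧ P' * P = 1 ∧ Q * Q' = 1 ∧
      P * ChevTorus.cartanMat D * Q = Matrix.diagonal fun i => (d i : ℤ)) ∧ ∀ i, d i = 1

theorem Unimodular.tInv_mem (hu : Unimodular D) (hW : GoodWeyl D) {masks : List ℕ}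
    (hok : maskOk D masks = true) {b : ℕ} (hb : b < 2 ^ D.rank) :
    tInv D F masks b ∈ D.diagonalSubgroup F := by
  obtain ⟨P, P', Q, Q', d, h, hd⟩ := hu
  exact ChevOddInvol.tInv_mem hW hok h hd hb

theorem Unimodular.card_diag (hu : Unimodular D) (hW : GoodWeyl D) :
    Nat.card (D.diagonalSubgroup F) = (Fintype.card F - 1) ^ D.rank := by
  obtain ⟨P, P', Q, Q', d, h, hd⟩ := hu
  have := ChevTorus.card_diagonalSubgroup (F := F) hW h
  simpa [hd] using this

/-- The torus involution as an element of the group. -/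
def tElt (hu : Unimodular D) (hW : GoodWeyl D) {masks : List ℕ} (hok : maskOk D masks = true)
    {b : ℕ} (hb : b < 2 ^ D.rank) : ↥(D.group F) :=
  ⟨tInv D F masks b, borel_le_group hW (diag_le_borel D (hu.tInv_mem hW hok hb))⟩

theorem orderOf_tElt (hu : Unimodular D) (hW : GoodWeyl D) (h2 : (2 : F) ≠ 0) {masks : List ℕ}
    (hok : maskOk D masks = true) {b : ℕ} (hb : b < 2 ^ D.rank) (hb0 : b ≠ 0) :
    orderOf (tElt (F := F) hu hW hok hb) = 2 := by
  refine orderOf_eq_prime ?_ fun e => hb0 ?_
  · rw [pow_two]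
    refine Subtype.ext ?_
    show tInv D F masks b * tInv D F masks b = 1
    rw [tInv, tor_mul, ← tor_one]
    congr 1
    funext r
    cases sgn D masks b r <;> simp [unitOf]
  · have e' : tInv D F masks b = tor (fun _ => 1) := (congrArg Subtype.val e).trans tor_one.symm
    apply Nat.eq_of_testBit_eq
    intro j
    rw [Nat.zero_testBit]
    rcases Nat.lt_or_ge j D.rank with hj | hj
    · have := congrFun (tor_injective e') (pRoot hW ⟨j, hj⟩)
      rw [sgn_simple hW hok] at this
      exact unitOf_injective h2 (this.trans (if_neg Bool.false_ne_true).symm)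
    · exact Nat.testBit_lt_two_pow (hb.trans_le (Nat.pow_le_pow_right two_pos hj))

/-- Every involution is conjugate to one of the representatives. -/
theorem isConj_tElt (hu : Unimodular D) (hW : GoodWeyl D) (h : Weyl.RootGood C M R)
    (hG : InvolGood hW h) (hF : Odd (Fintype.card F)) {masks reps pot : List ℕ}
    {path : List (ℕ × ℕ)} (hok : maskOk D masks = true) (hf : fuseOk D masks reps path = true)
    (hp : potOk D reps path pot = true) {g : ↥(D.group F)} (hg : orderOf g = 2) :
    ∃ (s : ℕ) (_ : s ∈ reps),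
      ∀ hs : s < 2 ^ D.rank, IsConj g (tElt (F := F) hu hW hok hs) := by
  have hg2 : (g : GL D.Idx F) * g = 1 := by
    have := congrArg Subtype.val (pow_orderOf_eq_one g)
    simpa [hg, pow_two] using this
  have hne : (g : GL D.Idx F) ≠ 1 := fun e => by
    rw [show g = 1 from Subtype.ext e, orderOf_one] at hg
    omega
  obtain ⟨x, hx, s, hs, e⟩ := exists_conj_tInv hW h hF hG hok hf hp g.2 hg2 hne
  exact ⟨s, hs, fun _ => isConj_iff.2 ⟨⟨x, hx⟩, Subtype.ext e⟩⟩

theorem card_centralizer_eq (t : ↥(D.group F)) :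
    Nat.card (Subgroup.centralizer ({t} : Set ↥(D.group F))) =
      Nat.card {g : GL D.Idx F // g ∈ D.group F ∧ g * t = t * g} :=
  Nat.card_congr
    { toFun := fun g => ⟨g.1.1, g.1.2,
        (congrArg Subtype.val (Subgroup.mem_centralizer_singleton_iff.1 g.2))⟩
      invFun := fun g => ⟨⟨g.1, g.2.1⟩,
        Subgroup.mem_centralizer_singleton_iff.2 (Subtype.ext g.2.2)⟩
      left_inv := fun _ => rfl
      right_inv := fun _ => rfl }

/-- Conjugate elements have centralizers of the same order. -/
theorem card_centralizer_congr {G : Type*} [Group G] {s t : G} (e : IsConj s t) :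
    Nat.card (Subgroup.centralizer ({s} : Set G)) =
      Nat.card (Subgroup.centralizer ({t} : Set G)) := by
  obtain ⟨c, rfl⟩ := isConj_iff.1 e
  refine Nat.card_congr ((MulAut.conj c).toEquiv.subtypeEquiv fun g => ?_)
  show g ∈ Subgroup.centralizer ({s} : Set G) ↔ c * g * c⁻¹ ∈ Subgroup.centralizer {c * s * c⁻¹}
  simp only [Subgroup.mem_centralizer_singleton_iff]
  constructor
  · intro e
    rw [show c * g * c⁻¹ * (c * s * c⁻¹) = c * (g * s) * c⁻¹ by group,
      show c * s * c⁻¹ * (c * g * c⁻¹) = c * (s * g) * c⁻¹ by group, e]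
  · intro e
    rw [show c * g * c⁻¹ * (c * s * c⁻¹) = c * (g * s) * c⁻¹ by group,
      show c * s * c⁻¹ * (c * g * c⁻¹) = c * (s * g) * c⁻¹ by group] at e
    exact mul_left_cancel (mul_right_cancel e)

/-- The order of the centralizer of a torus involution. -/
theorem card_centralizer_tElt (hu : Unimodular D) (hW : GoodWeyl D) (h : Weyl.RootGood C M R)
    (hF : Odd (Fintype.card F)) {masks pot : List ℕ} {path : List (ℕ × ℕ)}
    (hok : maskOk D masks = true) {b : ℕ} (hb : b < 2 ^ D.rank) {T : SubData} {degs : List ℕ}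
    (hT : stabOk D R C masks b path pot T degs = true) {N : ℕ}
    (hN : ((List.range D.nroots).countP fun r => T.fm.testBit r && R.mask.testBit r) = N)
    (hlen : degs.length = D.rank) :
    Nat.card (Subgroup.centralizer ({tElt (F := F) hu hW hok hb} : Set ↥(D.group F))) =
      Fintype.card F ^ N * (degs.map fun d => Fintype.card F ^ d - 1).prod := by
  classical
  have := h.finite_group
  haveI := Fintype.ofFinite M.Group
  have hT' := hT
  simp only [stabOk, Bool.and_eq_true] at hT'
  rw [card_centralizer_eq]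
  show Nat.card {g : GL D.Idx F // g ∈ D.group F ∧ g * tInv D F masks b = tInv D F masks b * g} = _
  rw [card_centralizer hW h (two_ne_zero_of_odd hF) (hu.tInv_mem hW hok hb), hu.card_diag hW,
    sum_stab hW h hok hT, card_fix_pos hW h hT'.1.1.1.1.2, hN, Nat.card_eq_fintype_card, mul_assoc,
    ← hlen, geom_prod_mul _ Fintype.card_pos]

theorem coprime_prod_pow_sub_one {q : ℕ} (hq : 1 ≤ q) : ∀ degs : List ℕ, (∀ d ∈ degs, 0 < d) →
    Nat.Coprime q (degs.map fun d => q ^ d - 1).prod := by
  intro degs
  induction degs with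
  | nil => intro _; simp
  | cons d degs ih =>
    intro hd
    rw [List.map_cons, List.prod_cons]
    refine Nat.Coprime.mul_right ?_ (ih fun e he => hd e (List.mem_cons_of_mem _ he))
    have hd0 := hd d List.mem_cons_self
    have h1 : 1 ≤ q ^ d := Nat.one_le_pow _ _ hq
    have h2 : Nat.Coprime (q ^ d - 1) (q ^ d) := by
      have e := Nat.coprime_self_add_right (m := q ^ d - 1) (n := 1)
      rw [Nat.sub_add_cancel h1] at e
      exact e.2 (Nat.coprime_one_right _)
    exact ((Nat.coprime_pow_right_iff hd0 _ _).1 h2).symm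

/-- The two centralizer orders differ in the power of `q`. -/
theorem orders_ne {q : ℕ} (hq : 2 ≤ q) {a b : ℕ} (hab : a ≠ b) {ds es : List ℕ}
    (hds : ∀ d ∈ ds, 0 < d) (hes : ∀ d ∈ es, 0 < d) :
    q ^ a * (ds.map fun d => q ^ d - 1).prod ≠ q ^ b * (es.map fun d => q ^ d - 1).prod := by
  wlog h : a < b generalizing a b ds es
  · exact fun e => this hab.symm hes hds (by omega) e.symm
  intro e
  obtain ⟨c, rfl⟩ : ∃ c, b = a + (c + 1) := ⟨b - a - 1, by omega⟩
  rw [pow_add, mul_assoc] at e
  have e' := Nat.eq_of_mul_eq_mul_left (Nat.pow_pos (by omega)) e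
  have hdvd : q ∣ (ds.map fun d => q ^ d - 1).prod :=
    e' ▸ Dvd.dvd.mul_right (dvd_pow_self q c.succ_ne_zero) _
  have := Nat.Coprime.eq_one_of_dvd (coprime_prod_pow_sub_one (by omega) ds hds) hdvd
  omega

end CfsgLib.ChevOddInvol
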