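import Cfsg.Agent.ChevOddInvol.DataG2
import Cfsg.Agent.ChevOddInvol.CertG2
import Cfsg.Agent.ChevOddInvol.Main

/-!
# The involutions of G2(q), q odd
-/

set_option autoImplicit false

namespace CfsgLib.ChevOddInvol

open Cfsg.Lie CfsgLib.Chevalley

theorem unimodularG2 : Unimodular chevG2 :=
  ⟨_, _, _, _, _, ChevTorus.smithG2, (by decide : ∀ i : Fin 2, (![1, 1] : Fin 2 → ℕ) i = 1)⟩

theorem goodWeylG2 : GoodWeyl chevG2 := goodWeyl_of_mem (by simp)

/-- The torus involution of G2. -/
def tG2 (F : Type*) [Field F] [Fintype F] : ↥(chevG2.group F) :=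
  tElt unimodularG2 goodWeylG2 maskG2_ok (b := 1) (show 1 < 2 ^ 2 by norm_num)

variable {F : Type*} [Field F] [Fintype F]

/-- Every involution of G2(q) is conjugate to the torus involution. -/
theorem isConj_tG2 (hF : Odd (Fintype.card F)) {g : ↥(chevG2.group F)} (hg : orderOf g = 2) :
    IsConj g (tG2 F) := by
  obtain ⟨s, hs, e⟩ := isConj_tElt (F := F) unimodularG2 goodWeylG2 Weyl.rootG2_good
    (involGood_of_cert goodWeylG2 Weyl.rootG2_good involCertG2 involG2_ok) hF maskG2_ok fuseG2_ok
    potG2_ok hg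
  obtain rfl := List.mem_singleton.1 hs
  exact e _

/-- The order of the centralizer of the torus involution. -/
theorem card_centralizer_tG2 (hF : Odd (Fintype.card F)) :
    Nat.card (Subgroup.centralizer ({tG2 F} : Set ↥(chevG2.group F))) =
      Fintype.card F ^ 2 * (Fintype.card F ^ 2 - 1) ^ 2 := by
  have h := card_centralizer_tElt (F := F) unimodularG2 goodWeylG2 Weyl.rootG2_good hF maskG2_ok
    (b := 1) (show 1 < 2 ^ 2 by norm_num) stabG2_0_ok (N := 2) (by decide +kernel) rfl
  exact h.trans (by simp [pow_two])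

end CfsgLib.ChevOddInvol
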