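import Cfsg.Agent.ChevInvol.Bruhat
import Cfsg.Agent.ChevUnip.Count
import Cfsg.Agent.Chevalley.BruhatUnique

/-!
# Involutions of Chevalley groups in odd characteristic are conjugate into the monomial subgroup
-/

set_option autoImplicit false

namespace CfsgLib.ChevOddInvol

open Cfsg.Lie CfsgLib.Chevalley

variable {D : ChevalleyDatum} {C : Weyl.Cert D.rank} {M : CoxeterMatrix (Fin D.rank)}
  {R : Weyl.RootTable} {F : Type*} [Field F]

/-- An element of odd order inverted by `n` is a twisted square. -/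
theorem exists_halve {G : Type*} [Group G] {v n : G} {q : ℕ} (hq : v ^ (2 * q + 1) = 1)
    (hinv : n * v * n⁻¹ = v⁻¹) : ∃ a ∈ Subgroup.zpowers v, a * n * a⁻¹ = v * n := by
  refine ⟨v ^ (q + 1), pow_mem (Subgroup.mem_zpowers v) _, ?_⟩
  have h1 : n * (v ^ (q + 1))⁻¹ * n⁻¹ = v ^ (q + 1) := by
    rw [← inv_pow, ← conj_pow, show n * v⁻¹ * n⁻¹ = (n * v * n⁻¹)⁻¹ by group, hinv, inv_inv]
  calc v ^ (q + 1) * n * (v ^ (q + 1))⁻¹
      = v ^ (q + 1) * (n * (v ^ (q + 1))⁻¹ * n⁻¹) * n := by group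
    _ = v ^ (q + 1) * v ^ (q + 1) * n := by rw [h1]
    _ = v * n := by
        rw [← pow_add, show q + 1 + (q + 1) = 2 * q + 1 + 1 by ring, pow_succ, hq, one_mul]

/-- Every element squaring to `1` is conjugate in the group to a monomial element. -/
theorem exists_conj_monomial (hW : GoodWeyl D) (h : Weyl.RootGood C M R) [Fintype F]
    (hF : Odd (Fintype.card F)) {g : GL D.Idx F} (hg : g ∈ D.group F) (hg2 : g * g = 1) :
    ∃ x ∈ D.group F, x * g * x⁻¹ ∈ D.monomialSubgroup F ∧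
      x * g * x⁻¹ * (x * g * x⁻¹) = 1 := by
  obtain ⟨p, hchar⟩ := CharP.exists F
  have hp := CharP.char_is_prime F p
  have := Fact.mk hp
  obtain ⟨⟨w, b, u⟩, ⟨hb, hu, e⟩, -⟩ := existsUnique_form hW h hg
  dsimp only at hb hu e
  have hposG : D.posUnipotent F ≤ D.group F := (pos_le_borel D).trans (borel_le_group hW)
  have huG : u ∈ D.group F := hposG (uW_le_pos hW h w hu)
  obtain ⟨v, hv, k, hk, hvk⟩ := (mem_borel_iff hW).1
    (mul_mem (pos_le_borel D (uW_le_pos hW h w hu)) hb)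
  set n : GL D.Idx F := k * nW hW h F w with hn
  have hnN : n ∈ D.monomialSubgroup F := mul_mem (diag_le_monomial D hk) (nW_mem hW h w)
  have e1 : u * g * u⁻¹ = v * n := by
    rw [hn, ← mul_assoc, hvk, ← e]
    group
  have hsq : v * n * (v * n) = 1 := by
    rw [← e1, show u * g * u⁻¹ * (u * g * u⁻¹) = u * (g * g) * u⁻¹ by group, hg2]
    group
  set N' : ↥(D.monomialSubgroup F) := ⟨n, hnN⟩ with hN'
  have hwN : weylHom hW h N' = w := weylHom_eq hW h (by
    have := (monBy_diag hW hk).mul (monBy_nW (F := F) hW h w)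
    rwa [one_mul] at this)
  have hcell : v * n ∈ cell hW h F (weylHom hW h N') := by
    have := mem_cell_self hW h N'
    exact ⟨v * k, mul_mem (pos_le_borel D hv) (diag_le_borel D hk), 1, one_mem _, by
      rw [hwN, hn]; group⟩
  have hww : w * w = 1 := by
    have hinv : v * n = n⁻¹ * v⁻¹ := by
      rw [← mul_inv_rev]; exact eq_inv_of_mul_eq_one_left hsq
    have hcell' : v * n ∈ cell hW h F (weylHom hW h N'⁻¹) := by
      obtain ⟨k', hk', ek⟩ := exists_eq_nW_mul (F := F) hW h N'⁻¹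
      rw [Subgroup.coe_inv] at ek
      change n⁻¹ = _ at ek
      exact ⟨1, one_mem _, k' * v⁻¹, mul_mem (diag_le_borel D hk')
        (pos_le_borel D (inv_mem hv)), by rw [hinv, ek]; group⟩
    have := cell_eq_of_mem hW h hcell hcell'
    rw [map_inv, hwN] at this
    exact mul_eq_one_iff_eq_inv.2 this
  have hn2 : n * n ∈ D.diagonalSubgroup F := by
    have : N' * N' ∈ (weylHom (F := F) hW h).ker := by
      rw [MonoidHom.mem_ker, map_mul, hwN, hww]
    rw [ker_weylHom, Subgroup.mem_subgroupOf] at this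
    exact this
  have hconj : n * v * n⁻¹ = v⁻¹ * (n * n)⁻¹ := by
    have : n * v * n = v⁻¹ := eq_inv_of_mul_eq_one_right (by rw [← hsq]; group)
    rw [← this]; group
  have hpel : ChevUnip.PEl p v := ChevUnip.pel_of_mem_pos p hW hv
  have hmem : n * v * n⁻¹ ∈ D.posUnipotent F := by
    refine ChevUnip.mem_pos_of_pel p hW ?_ (hpel.conj n)
    rw [hconj]
    exact mul_mem (pos_le_borel D (inv_mem hv)) (diag_le_borel D (inv_mem hn2))
  have hone : n * n = 1 := by
    have h1 : (n * n)⁻¹ ∈ D.posUnipotent F ⊓ D.diagonalSubgroup F := by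
      refine Subgroup.mem_inf.2 ⟨?_, inv_mem hn2⟩
      rw [show (n * n)⁻¹ = v * (n * v * n⁻¹) by rw [hconj]; group]
      exact mul_mem hv hmem
    rwa [pos_inf_diag hW, Subgroup.mem_bot, inv_eq_one] at h1
  rw [hone, inv_one, mul_one] at hconj
  obtain ⟨m, hm⟩ := hpel
  have hpodd : Odd p := hp.odd_of_ne_two fun h2 => by
    subst h2
    exact Nat.not_even_iff_odd.2 hF (Nat.even_iff.2 (FiniteField.even_card_of_char_two
      (ringChar.eq F 2)))
  obtain ⟨q, hq⟩ := hpodd.pow (n := m)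
  obtain ⟨a, ha, hav⟩ := exists_halve (q := q) (by rw [← hq]; exact hm) hconj
  have haG : a ∈ D.group F := (Subgroup.zpowers_le.2 (hposG hv)) ha
  have hx : a⁻¹ * u * g * (a⁻¹ * u)⁻¹ = n := by
    rw [show a⁻¹ * u * g * (a⁻¹ * u)⁻¹ = a⁻¹ * (u * g * u⁻¹) * a by group, e1, ← hav]
    group
  exact ⟨a⁻¹ * u, mul_mem (inv_mem haG) huG, by rw [hx]; exact ⟨hnN, hone⟩⟩

end CfsgLib.ChevOddInvol
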