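import Cfsg.Agent.ChevInvol.Bruhat
import Cfsg.Agent.Chevalley.RankOne
import Cfsg.Agent.ChevTorus.Generators

/-!
# Reflection elements of arbitrary roots and monomial involutions
-/

set_option autoImplicit false

namespace CfsgLib.ChevOddInvol

open Cfsg.Lie CfsgLib.Chevalley

variable {D : ChevalleyDatum} {C : Weyl.Cert D.rank} {M : CoxeterMatrix (Fin D.rank)}
  {R : Weyl.RootTable} {F : Type*} [Field F]

theorem pairing_rev_left (hD : Good D) (r : Root D) (s : ℕ) :
    D.pairing r.rev s = -D.pairing r s := by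
  rw [pairing_eq_sum, pairing_eq_sum, ← Finset.sum_neg_distrib]
  refine Finset.sum_congr rfl fun k _ => ?_
  rw [hD.coroot_rev r k, neg_mul]

theorem pairing_rev_right (hD : Good D) (r : ℕ) (s : Root D) :
    D.pairing r s.rev = -D.pairing r s := by
  rw [pairing_eq_sum, pairing_eq_sum, ← Finset.sum_neg_distrib]
  refine Finset.sum_congr rfl fun k _ => ?_
  rw [hD.cartan_rev, mul_neg]

theorem pairing_self (hW : GoodWeyl D) (r : Root D) : D.pairing r r = 2 :=
  hW.root_induction (P := fun r => D.pairing r r = 2)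
    (fun i => by rw [hW.pairing_pRoot]; exact hW.good.cartan_simple_self i.isLt)
    (fun i r hr => by rw [hW.pairing_wPerm, hW.wPerm_wPerm, hr]) r

theorem wPerm_eq_self (hW : GoodWeyl D) (i : Fin D.rank) (s : Root D)
    (h0 : D.cartan i s = 0) : wPerm hW i s = s := by
  have h2 : D.cartan i (D.simple i) = 2 := hW.good.cartan_simple_self i.isLt
  refine Fin.ext ?_
  rw [hW.wPerm_val, ChevalleyDatum.reflectRoot]
  have h1 : (s : ℕ) ≠ D.simple i := fun e => by rw [e, h2] at h0; omega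
  have h3 : (s : ℕ) ≠ D.neg (D.simple i) := by
    intro e
    rw [show D.neg (D.simple i) = ((pRoot hW i).rev : ℕ) from hW.good.neg_fin (pRoot hW i)] at e
    rw [e, hW.good.cartan_rev] at h0
    change -D.cartan i (D.simple i) = 0 at h0
    omega
  simp only [if_neg h1, if_neg h3, h0, lt_irrefl, if_false]

theorem pairing_rootPerm (hW : GoodWeyl D) (h : Weyl.RootGood C M R) (w : M.Group) :
    ∀ r s : Root D, D.pairing (h.rootPerm w r) (h.rootPerm w s) = D.pairing r s := by
  induction w using M.toCoxeterSystem.simple_induction_left with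
  | one => intro r s; simp
  | mul_simple_left w i ih =>
    intro r s
    rw [map_mul, Equiv.Perm.mul_apply, Equiv.Perm.mul_apply, CoxeterMatrix.toCoxeterSystem_simple,
      ← wPerm_eq_rootPerm hW h, hW.pairing_wPerm, hW.wPerm_wPerm, ih]

theorem rootPerm_mem_reflGroup (hW : GoodWeyl D) (h : Weyl.RootGood C M R) (w : M.Group) :
    h.rootPerm w ∈ ChevTorus.reflGroup hW := by
  induction w using M.toCoxeterSystem.simple_induction_left with
  | one => rw [map_one]; exact one_mem _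
  | mul_simple_left w i ih =>
    rw [map_mul, CoxeterMatrix.toCoxeterSystem_simple, ← wPerm_eq_rootPerm hW h]
    exact mul_mem (Subgroup.subset_closure ⟨i, rfl⟩) ih

theorem rootPerm_rev (hW : GoodWeyl D) (h : Weyl.RootGood C M R) (w : M.Group) (r : Root D) :
    h.rootPerm w r.rev = (h.rootPerm w r).rev := by
  induction w using M.toCoxeterSystem.simple_induction_left generalizing r with
  | one => simp
  | mul_simple_left w i ih =>
    rw [map_mul, Equiv.Perm.mul_apply, Equiv.Perm.mul_apply, ih,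
      CoxeterMatrix.toCoxeterSystem_simple, ← wPerm_eq_rootPerm hW h, hW.wPerm_rev]

theorem hT_conj_X (hW : GoodWeyl D) (r s : Root D) (t : Fˣ) (u : F) :
    hT F r t * X hW.good s u * (hT F r t)⁻¹ =
      X hW.good s (((t ^ D.pairing r s : Fˣ) : F) * u) := by
  rw [hT_eq_torC, ChevTorus.torC_conj_X]
  congr 3
  rw [pairing_eq_sum, ChevTorus.torVal]
  simp only [wt_inr, ← zpow_mul]
  induction (Finset.univ : Finset (Fin D.rank)) using Finset.induction_on with
  | empty => simp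
  | insert k S hk ih => rw [Finset.sum_insert hk, Finset.prod_insert hk, zpow_add, ih]

theorem nElt_eq_hT_mul (hW : GoodWeyl D) (r : Root D) (t : Fˣ) :
    nElt hW.good r t = hT F r t * nElt hW.good r 1 := by
  rw [← hElt_eq hW r t, nElt_neg, inv_mul_cancel_right]

/-- The facts about the reflection element of a root. -/
structure ReflData (hW : GoodWeyl D) (F : Type*) [Field F] (r : Root D)
    (ρ : Equiv.Perm (Root D)) : Prop where
  mem : (nElt hW.good r 1 : GL D.Idx F) ∈ D.monomialSubgroup F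
  mon : MonBy hW (nElt hW.good r 1 : GL D.Idx F) ρ
  self : ρ r = r.rev
  fix : ∀ s : Root D, D.pairing r s = 0 → ρ s = s
  neg : ∀ s : Root D, D.pairing r (ρ s : Root D) = -D.pairing r s

theorem exists_reflData (hW : GoodWeyl D) (r : Root D) : ∃ ρ, ReflData hW F r ρ := by
  refine hW.root_induction (P := fun r => ∃ ρ, ReflData hW F r ρ) (fun i => ?_) ?_ r
  · refine ⟨wPerm hW i, ?_, ?_, hW.wPerm_pRoot i, fun s hs => ?_, fun s => ?_⟩
    · rw [nElt_one]; exact nR_mem_monomial hW i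
    · rw [nElt_one]; exact monBy_nR hW i
    · exact wPerm_eq_self hW i s (by rw [← hW.pairing_pRoot]; exact hs)
    · rw [hW.pairing_pRoot, hW.pairing_pRoot, hW.cartan_wPerm_self]
  · rintro i s ⟨ρ, hmem, hmon, hself, hfix, hneg⟩
    obtain ⟨c, hc⟩ := ChevTorus.eta_isUnit (F := F) hW i s
    have hcc : c * c = 1 := Units.ext (by
      rw [Units.val_mul, hc, ← Int.cast_mul, hW.eta_sq, Int.cast_one, Units.val_one])
    have e : nElt hW.good (wPerm hW i s) (1 : Fˣ) =
        nR hW i * nElt hW.good s c * (nR hW i)⁻¹ := by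
      rw [nElt_conj hW i s c c hc, hcc]
    have hm : MonBy hW (nElt hW.good s c : GL D.Idx F) ρ := by
      rw [nElt_eq_hT_mul hW]
      have := (monBy_diag hW (hT_mem_diagonal (F := F) hW s c)).mul hmon
      rwa [one_mul] at this
    refine ⟨wPerm hW i * ρ * (wPerm hW i)⁻¹, ?_, ?_, ?_, fun t ht => ?_, fun t => ?_⟩
    · rw [e, nElt_eq_hT_mul hW]
      exact mul_mem (mul_mem (nR_mem_monomial hW i)
        (mul_mem (diag_le_monomial D (hT_mem_diagonal hW s c)) hmem))
        (inv_mem (nR_mem_monomial hW i))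
    · rw [e]
      exact ((monBy_nR hW i).mul hm).mul (monBy_nR hW i).inv
    · show wPerm hW i (ρ (wPerm hW i (wPerm hW i s))) = _
      rw [hW.wPerm_wPerm, hself, hW.wPerm_rev]
    · show wPerm hW i (ρ (wPerm hW i t)) = t
      rw [hfix _ (by rw [← hW.pairing_wPerm]; exact ht), hW.wPerm_wPerm]
    · show D.pairing (wPerm hW i s : Root D) (wPerm hW i (ρ (wPerm hW i t)) : Root D) = _
      rw [hW.pairing_wPerm, hW.wPerm_wPerm, hneg, hW.pairing_wPerm]

/-- A permutation of the roots lying in `W` which is the reflection of `r`. -/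
theorem exists_refl (hW : GoodWeyl D) (h : Weyl.RootGood C M R) (F : Type*) [Field F] (r : Root D) :
    ∃ s : M.Group, ReflData hW F r (h.rootPerm s) := by
  obtain ⟨ρ, hρ⟩ := exists_reflData (F := F) hW r
  refine ⟨weylHom hW h ⟨_, hρ.mem⟩, ?_⟩
  have := (monBy_weylHom hW h ⟨_, hρ.mem⟩).unique hρ.mon
  rwa [this]

/-! ### `SL₂` along a root -/

theorem sl2_ext {a b : Matrix.SpecialLinearGroup (Fin 2) F} (h00 : a.1 0 0 = b.1 0 0)
    (h01 : a.1 0 1 = b.1 0 1) (h10 : a.1 1 0 = b.1 1 0) (h11 : a.1 1 1 = b.1 1 1) : a = b := by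
  apply Subtype.ext
  apply Matrix.ext
  intro p q
  fin_cases p <;> fin_cases q <;> assumption

theorem sl2_mul_apply (a b : Matrix.SpecialLinearGroup (Fin 2) F) (i j : Fin 2) :
    (a * b).1 i j = a.1 i 0 * b.1 0 j + a.1 i 1 * b.1 1 j := by
  show (a.1 * b.1) i j = _
  rw [Matrix.mul_apply, Fin.sum_univ_two]

theorem sl2_neg_apply (a : Matrix.SpecialLinearGroup (Fin 2) F) (i j : Fin 2) :
    (-a).1 i j = -(a.1 i j) := by
  simp

/-- The matrix `!![0, t; -1/t, 0]`. -/
def nMat2 (t : Fˣ) : Matrix.SpecialLinearGroup (Fin 2) F :=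
  ⟨!![0, (t : F); -((t⁻¹ : Fˣ) : F), 0], by simp [Matrix.det_fin_two]⟩

variable (hW : GoodWeyl D) {r : Root D} {φ : Matrix.SpecialLinearGroup (Fin 2) F →* GL D.Idx F}
  (hu : ∀ t, φ (RankOneRel.uMat F t) = X hW.good r t)
  (hv : ∀ t, φ (RankOneRel.vMat F t) = X hW.good r.rev t)

include hu hv

theorem map_nMat2 (t : Fˣ) : φ (nMat2 t) = nElt hW.good r t := by
  rw [nElt, ← hu, ← hv, ← map_mul, ← map_mul]
  congr 1
  refine sl2_ext ?_ ?_ ?_ ?_ <;>
    simp [nMat2, RankOneRel.uMat_val, RankOneRel.vMat_val, Matrix.mul_apply, Fin.sum_univ_two]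

theorem map_neg_one : φ (-1) = hT F r (-1) := by
  rw [← hElt_eq hW r (-1), ← map_nMat2 hW hu hv, ← map_mul]
  congr 1
  refine sl2_ext ?_ ?_ ?_ ?_ <;> rw [sl2_mul_apply] <;> simp [nMat2]

theorem nElt_rev (u : Fˣ) :
    nElt hW.good r.rev u = (nElt hW.good r (-u⁻¹) : GL D.Idx F) := by
  rw [← map_nMat2 hW hu hv, nElt, Fin.rev_rev, ← hv, ← hu, ← map_mul, ← map_mul]
  congr 1
  refine sl2_ext ?_ ?_ ?_ ?_ <;>
    simp [nMat2, RankOneRel.uMat_val, RankOneRel.vMat_val, Matrix.mul_apply, Fin.sum_univ_two]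

omit hu hv

/-- The conjugate of a matrix by `!![0, 1; c, 0]`. -/
def tauFun (c : Fˣ) (g : Matrix.SpecialLinearGroup (Fin 2) F) :
    Matrix.SpecialLinearGroup (Fin 2) F :=
  ⟨!![g.1 1 1, g.1 1 0 * ((c⁻¹ : Fˣ) : F); (c : F) * g.1 0 1, g.1 0 0], by
    have := RankOneRel.det_eq g
    have hc : ((c⁻¹ : Fˣ) : F) * (c : F) = 1 := c.inv_mul
    rw [Matrix.det_fin_two_of]
    linear_combination this - (g.1 1 0 * g.1 0 1) * hc⟩

theorem tauFun_val (c : Fˣ) (g : Matrix.SpecialLinearGroup (Fin 2) F) : (tauFun c g).1 =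
    !![g.1 1 1, g.1 1 0 * ((c⁻¹ : Fˣ) : F); (c : F) * g.1 0 1, g.1 0 0] := rfl

/-- Conjugation by `!![0, 1; c, 0]`. -/
def tau (c : Fˣ) : Matrix.SpecialLinearGroup (Fin 2) F →* Matrix.SpecialLinearGroup (Fin 2) F where
  toFun g := tauFun c g
  map_one' := sl2_ext (by simp [tauFun_val]) (by simp [tauFun_val]) (by simp [tauFun_val])
    (by simp [tauFun_val])
  map_mul' g k := by
    have hc : ((c⁻¹ : Fˣ) : F) * (c : F) = 1 := c.inv_mul
    refine sl2_ext ?_ ?_ ?_ ?_ <;>
      simp only [tauFun_val, sl2_mul_apply, Matrix.of_apply, Matrix.cons_val', Matrix.cons_val_zero,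
        Matrix.cons_val_one, Matrix.cons_val_fin_one, Matrix.empty_val', Matrix.head_cons,
        Matrix.head_fin_const]
    · linear_combination (-(g.1 1 0) * k.1 0 1) * hc
    · ring
    · ring
    · linear_combination (-(g.1 0 1) * k.1 1 0) * hc

include hu hv

/-- An element exchanging `X_r` and `X_{-r}` acts on `⟨X_r, X_{-r}⟩` as `tau`. -/
theorem conj_map {n : GL D.Idx F} {c : Fˣ}
    (h1 : ∀ t, n * X hW.good r t * n⁻¹ = X hW.good r.rev ((c : F) * t))
    (h2 : ∀ t, n * X hW.good r.rev t * n⁻¹ = X hW.good r (((c⁻¹ : Fˣ) : F) * t))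
    (g : Matrix.SpecialLinearGroup (Fin 2) F) : n * φ g * n⁻¹ = φ (tau c g) := by
  have htu : ∀ t, tau c (RankOneRel.uMat F t) = RankOneRel.vMat F ((c : F) * t) := fun t => by
    refine sl2_ext ?_ ?_ ?_ ?_ <;> simp [tau, tauFun_val, RankOneRel.uMat_val, RankOneRel.vMat_val]
  have htv : ∀ t, tau c (RankOneRel.vMat F t) = RankOneRel.uMat F (((c⁻¹ : Fˣ) : F) * t) := fun t => by
    refine sl2_ext ?_ ?_ ?_ ?_ <;> simp [tau, tauFun_val, RankOneRel.uMat_val, RankOneRel.vMat_val, mul_comm]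
  have hw : RankOneRel.wMat F =
      RankOneRel.uMat F 1 * RankOneRel.vMat F (-1) * RankOneRel.uMat F 1 := by
    refine sl2_ext ?_ ?_ ?_ ?_ <;>
      simp [RankOneRel.uMat_val, RankOneRel.vMat_val, RankOneRel.wMat_val, Matrix.mul_apply,
        Fin.sum_univ_two]
  have key : ((MulAut.conj n).toMonoidHom.comp φ) = φ.comp (tau c) := by
    refine MonoidHom.eq_of_eqOn_denseM (s := Set.range (RankOneRel.uMat F) ∪ {RankOneRel.wMat F})
      RankOneRel.closure_eq_top ?_
    have hu' : ∀ t, ((MulAut.conj n).toMonoidHom.comp φ) (RankOneRel.uMat F t) =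
        (φ.comp (tau c)) (RankOneRel.uMat F t) := fun t => by
      simp [hu, hv, htu, h1]
    have hv' : ∀ t, ((MulAut.conj n).toMonoidHom.comp φ) (RankOneRel.vMat F t) =
        (φ.comp (tau c)) (RankOneRel.vMat F t) := fun t => by
      simp [hu, hv, htv, h2]
    rintro x (⟨t, rfl⟩ | hx)
    · exact hu' t
    · rw [Set.mem_singleton_iff.1 hx, hw, map_mul, map_mul, map_mul, map_mul, hu', hv']
  exact DFunLike.congr_fun key g

/-- The split step: a square scalar reduces by the reflection. -/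
theorem conj_split {n : GL D.Idx F} {c d : Fˣ} (h2F : (2 : F) ≠ 0) (hd : c = d * d)
    (h1 : ∀ t, n * X hW.good r t * n⁻¹ = X hW.good r.rev ((c : F) * t))
    (h2 : ∀ t, n * X hW.good r.rev t * n⁻¹ = X hW.good r (((c⁻¹ : Fˣ) : F) * t)) :
    ∃ g, φ g * n * (φ g)⁻¹ = nElt hW.good r d⁻¹ * n := by
  let P : Matrix.SpecialLinearGroup (Fin 2) F :=
    ⟨!![1, -((d⁻¹ : Fˣ) : F) / 2; (d : F), 1 / 2], by
      rw [Matrix.det_fin_two_of]
      simp only [Units.val_inv_eq_inv_val]
      field_simp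
      ring⟩
  have hP : P⁻¹ * tau c P = nMat2 d⁻¹ := by
    rw [inv_mul_eq_iff_eq_mul]
    show tauFun c P = P * nMat2 d⁻¹
    refine sl2_ext ?_ ?_ ?_ ?_ <;> rw [sl2_mul_apply, tauFun_val] <;>
      simp [P, nMat2, hd] <;> field_simp
  refine ⟨P⁻¹, ?_⟩
  rw [← map_inv, inv_inv, ← map_nMat2 hW hu hv, ← hP, map_mul, ← conj_map hW hu hv h1 h2]
  group

/-- The flip step: conjugation multiplies by `h_r(-1)`. -/
theorem conj_flip [Fintype F] {n : GL D.Idx F} {c : Fˣ} (hF : Odd (Fintype.card F))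
    (h1 : ∀ t, n * X hW.good r t * n⁻¹ = X hW.good r.rev ((c : F) * t))
    (h2 : ∀ t, n * X hW.good r.rev t * n⁻¹ = X hW.good r (((c⁻¹ : Fˣ) : F) * t)) :
    ∃ g, φ g * n * (φ g)⁻¹ = hT F r (-1) * n := by
  classical
  obtain ⟨a, b, hab⟩ : ∃ a b : F, -(a ^ 2) + (c : F) * b ^ 2 = 1 := by
    have hdeg : ∀ u w : F, u ≠ 0 →
        ((Polynomial.C u * Polynomial.X ^ 2 + Polynomial.C w : Polynomial F).degree = 2) := by
      intro u w hu
      rw [Polynomial.degree_add_eq_left_of_degree_lt]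
      · exact Polynomial.degree_C_mul_X_pow 2 hu
      · rw [Polynomial.degree_C_mul_X_pow 2 hu]
        exact lt_of_le_of_lt Polynomial.degree_C_le (by norm_num)
    obtain ⟨a, b, hab⟩ := FiniteField.exists_root_sum_quadratic
      (hdeg (-1) (-1) (neg_ne_zero.2 one_ne_zero)) (hdeg (c : F) 0 c.ne_zero)
      (Nat.odd_iff.1 hF)
    refine ⟨a, b, ?_⟩
    simp at hab
    linear_combination hab
  let g : Matrix.SpecialLinearGroup (Fin 2) F :=
    ⟨!![a, b; -((c : F) * b), -a], by rw [Matrix.det_fin_two_of]; linear_combination hab⟩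
  have hg : tau c g = -1 * g := by
    show tauFun c g = -1 * g
    refine sl2_ext ?_ ?_ ?_ ?_ <;> rw [sl2_mul_apply, tauFun_val] <;> simp [g]
    field_simp
  refine ⟨g, ?_⟩
  have e : g * tau c g⁻¹ = -1 := by
    rw [map_inv, hg, mul_inv_rev, mul_inv_cancel_left]
    exact inv_eq_of_mul_eq_one_right (by simp)
  rw [← map_neg_one hW hu hv, ← e, map_mul, ← conj_map hW hu hv h1 h2, map_inv]
  group

end CfsgLib.ChevOddInvol
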