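import Cfsg.Agent.ChevOddInvol.Centralizer
import Cfsg.Agent.Weyl.Poincare

/-!
# The stabilizer of a sign vector in the Weyl group

The stabilizer is enumerated as the products of coset representatives along a chain of reflection
subgroups of the fixed root system; its order is known from the orbit of the sign vector.
-/

set_option autoImplicit false

namespace CfsgLib.ChevOddInvol

open Cfsg.Lie CfsgLib.Chevalley

/-- One level of the chain in the fixed root system. -/
structure SubLevel where
  reps : List (List ℕ)
  q : ℕ
  c : List ℕ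
  keys : List ℕ

/-- A chain in the fixed root system. -/
structure SubData where
  words : List (List ℕ)
  fm : ℕ
  levels : List SubLevel
  orbit : List ℕ

/-- The word in simple reflections of a word in the reflections of the subsystem. -/
def flat (S : List (List ℕ)) (l : List ℕ) : List ℕ := (l.map fun k => S.getD k []).flatten

variable (D : ChevalleyDatum) (R : Weyl.RootTable) (S : List (List ℕ)) (fm : ℕ)

/-- The check of the reflection words. -/
def wordsOk : Bool :=
  S.all fun w => w.all (fun i => decide (i < D.rank)) && decide (w.reverse = w) &&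
    (List.range D.nroots).all fun r => fm.testBit (Weyl.rwalk R w r) == fm.testBit r

/-- The check of the negatives. -/
def negOk (q : ℕ) : Bool :=
  (List.range D.nroots).all fun r => !fm.testBit r ||
    (fm.testBit (D.neg r) && q.testBit (D.neg r) == q.testBit r)

/-- The check of the invariants of a level under the previous reflections. -/
def invarOk (k : ℕ) (L : SubLevel) : Bool :=
  (List.range k).all fun j => (List.range D.nroots).all fun r => !fm.testBit r ||
    (L.q.testBit (Weyl.rwalk R (S.getD j []) r) == L.q.testBit r &&
      L.c.getD (Weyl.rwalk R (S.getD j []) r) 0 == L.c.getD r 0 &&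
      (!R.mask.testBit r || L.q.testBit r || R.mask.testBit (Weyl.rwalk R (S.getD j []) r)))

/-- The check of the representatives of a level. -/
def repsOk (k : ℕ) (L : SubLevel) : Bool :=
  L.reps.all fun u => u.all (fun j => decide (j < k + 1)) &&
    (List.range D.nroots).all fun r => !fm.testBit r || !R.mask.testBit r || !L.q.testBit r ||
      R.mask.testBit (Weyl.rwalk R (flat S u) r)

/-- A label of the coset of a representative. -/
def repKey (c : List ℕ) (u : List ℕ) : ℕ :=
  (((List.range D.nroots).filter fun r => fm.testBit r).map fun r =>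
    c.getD (Weyl.rwalk R (flat S u).reverse r) 0).foldl (fun acc v => acc * 64 + v) 0

/-- The check of one level. -/
def subLevelOk (k : ℕ) (L : SubLevel) : Bool :=
  negOk D fm L.q && invarOk D R S fm k L && repsOk D R S fm k L &&
    decide (L.reps.map (repKey D R S fm L.c) = L.keys) && decide L.keys.Nodup

/-- The check of a chain. -/
def subChainOk : ℕ → List SubLevel → Bool
  | _, [] => true
  | k, L :: Ls => subLevelOk D R S fm k L && subChainOk (k + 1) Ls

/-- The number of positive fixed roots made negative by a representative. -/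
def invCount (u : List ℕ) : ℕ :=
  (List.range D.nroots).countP fun r =>
    fm.testBit r && R.mask.testBit r && !R.mask.testBit (Weyl.rwalk R (flat S u) r)

/-- The products along a chain. -/
def prods : List SubLevel → List (List ℕ) → List (List ℕ)
  | [], P => P
  | L :: Ls, P => prods Ls (L.reps.flatMap fun u => P.map (u ++ ·))

/-- The length polynomial of one level. -/
def subPoly (L : SubLevel) : List ℕ := Weyl.countList (L.reps.map (invCount D R S fm))

variable {D R S fm}
variable {C : Weyl.Cert D.rank} {M : CoxeterMatrix (Fin D.rank)}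

/-- The element of a word in the reflections of the subsystem. -/
def el (M : CoxeterMatrix (Fin D.rank)) (S : List (List ℕ)) (l : List ℕ) : M.Group :=
  Weyl.wordProd (Weyl.simpleNat M) (flat S l)

theorem el_append (l m : List ℕ) : el M S (l ++ m) = el M S l * el M S m := by
  simp [el, flat, Weyl.wordProd]

theorem el_nil : el M S [] = 1 := rfl

theorem el_cons (a : ℕ) (l : List ℕ) : el M S (a :: l) = el M S [a] * el M S l :=
  el_append [a] l

theorem wordProd_reverse (w : List ℕ) :
    Weyl.wordProd (Weyl.simpleNat M) w.reverse = (Weyl.wordProd (Weyl.simpleNat M) w)⁻¹ := by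
  induction w with
  | nil => simp [Weyl.wordProd]
  | cons a w ih =>
    simp only [Weyl.wordProd] at ih ⊢
    rw [List.reverse_cons, List.map_append, List.prod_append, ih]
    simp only [List.map_cons, List.map_nil, List.prod_cons, List.prod_nil, mul_one, mul_inv_rev,
      inv_eq_of_mul_eq_one_right (Weyl.simpleNat_mul_self M a)]

section

variable (hS : wordsOk D R S fm = true)
include hS

theorem flat_lt (l : List ℕ) : ∀ j ∈ flat S l, j < D.rank := by
  intro j hj
  simp only [flat, List.mem_flatten, List.mem_map] at hj
  obtain ⟨w, ⟨k, -, rfl⟩, hj⟩ := hj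
  simp only [wordsOk, Bool.and_eq_true, List.all_eq_true, decide_eq_true_eq] at hS
  rcases Nat.lt_or_ge k S.length with hk | hk
  · rw [List.getD_eq_getElem _ _ hk] at hj
    exact (hS _ (List.getElem_mem hk)).1.1 j hj
  · rw [List.getD_eq_default _ _ hk] at hj
    exact absurd hj List.not_mem_nil

theorem word_reverse (k : ℕ) : (S.getD k []).reverse = S.getD k [] := by
  simp only [wordsOk, Bool.and_eq_true, List.all_eq_true, decide_eq_true_eq] at hS
  rcases Nat.lt_or_ge k S.length with hk | hk
  · rw [List.getD_eq_getElem _ _ hk]
    exact (hS _ (List.getElem_mem hk)).1.2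
  · rw [List.getD_eq_default _ _ hk]; rfl

theorem el_reverse (l : List ℕ) : el M S l.reverse = (el M S l)⁻¹ := by
  rw [el, el, ← wordProd_reverse]
  congr 1
  induction l with
  | nil => rfl
  | cons a l ih =>
    simp only [flat] at ih ⊢
    rw [List.reverse_cons, List.map_append, List.flatten_append, ih]
    simp only [List.map_cons, List.map_nil, List.flatten_cons, List.flatten_nil, List.append_nil,
      List.reverse_append]
    rw [word_reverse hS a]

variable (h : Weyl.RootGood C M R)
include h

theorem perm_el (l : List ℕ) (r : Root D) :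
    ((h.rootPerm (el M S l) r : Root D) : ℕ) = Weyl.rwalk R (flat S l) r :=
  h.rootPerm_wordProd _ (flat_lt hS l) r

theorem fm_el (l : List ℕ) (r : Root D) :
    fm.testBit (h.rootPerm (el M S l) r : Root D) = fm.testBit r := by
  induction l with
  | nil => simp [el_nil]
  | cons a l ih =>
    rw [el_cons, map_mul, Equiv.Perm.mul_apply, perm_el hS h]
    simp only [flat, List.map_cons, List.map_nil, List.flatten_cons, List.flatten_nil,
      List.append_nil]
    have hw := hS
    simp only [wordsOk, Bool.and_eq_true, List.all_eq_true, beq_iff_eq, List.mem_range] at hw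
    rcases Nat.lt_or_ge a S.length with hk | hk
    · rw [List.getD_eq_getElem _ _ hk, (hw _ (List.getElem_mem hk)).2 _ (Fin.isLt _), ih]
    · rw [List.getD_eq_default _ _ hk]
      exact ih

theorem invar_el {k : ℕ} {L : SubLevel} (hL : invarOk D R S fm k L = true) :
    ∀ (l : List ℕ), (∀ j ∈ l, j < k) → ∀ r : Root D, fm.testBit r = true →
      L.q.testBit (h.rootPerm (el M S l) r : Root D) = L.q.testBit r ∧
      L.c.getD (h.rootPerm (el M S l) r : Root D) 0 = L.c.getD r 0 ∧
      (R.mask.testBit r = true → L.q.testBit r = false →
        R.mask.testBit (h.rootPerm (el M S l) r : Root D) = true) := by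
  intro l
  induction l with
  | nil => intro _ r _; simpa [el_nil] using fun hp _ => hp
  | cons a l ih =>
    intro hl r hr
    obtain ⟨i1, i2, i3⟩ := ih (fun j hj => hl j (List.mem_cons_of_mem _ hj)) r hr
    set s := h.rootPerm (el M S l) r with hs
    have hfs : fm.testBit (s : Root D) = true := by rw [hs, fm_el hS h, hr]
    have e : ((h.rootPerm (el M S (a :: l)) r : Root D) : ℕ) = Weyl.rwalk R (S.getD a []) s := by
      rw [el_cons, map_mul, Equiv.Perm.mul_apply, perm_el hS h]
      simp [flat, hs]
    simp only [invarOk, Bool.and_eq_true, List.all_eq_true, List.mem_range, Bool.or_eq_true,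
      Bool.not_eq_true', beq_iff_eq] at hL
    obtain ⟨⟨g1, g2⟩, g3⟩ :=
      (hL a (hl a List.mem_cons_self) s s.isLt).resolve_left (by simp [hfs])
    refine ⟨by rw [e, g1, i1], by rw [e, g2, i2], fun hp hq => ?_⟩
    rw [e]
    rcases g3 with (g | g) | g
    · exact absurd (i3 hp hq) (by simp [g])
    · rw [i1, hq] at g; exact absurd g Bool.false_ne_true
    · exact g

omit hS in
/-- The positive fixed roots made negative. -/
def invF (fm : ℕ) (w : M.Group) : Finset (Root D) :=
  Finset.univ.filter fun r => fm.testBit r = true ∧ R.mask.testBit r = true ∧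
    R.mask.testBit (h.rootPerm w r : Root D) = false

omit hS in
theorem mask_neg (r : Root D) :
    R.mask.testBit (h.negRoot r : Root D) = !R.mask.testBit r := by
  have e1 := h.mask_iff (h.negRoot r).isLt
  have e2 := h.mask_iff r.isLt
  have e3 : (0 < Weyl.corootHt D (h.negRoot r : Root D)) ↔ ¬ (0 < Weyl.corootHt D r) :=
    h.pos_negRoot r
  cases hr : R.mask.testBit r
  · rw [Bool.not_false, e1, e3, ← e2, hr]; simp
  · rw [Bool.not_true, Bool.eq_false_iff, ne_eq, e1, e3, ← e2, hr]; simp

theorem invCount_eq (u : List ℕ) :
    invCount D R S fm u = (invF h fm (el M S u)).card := by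
  rw [invCount, ← List.map_coe_finRange_eq_range, List.countP_map, List.countP_eq_length_filter,
    ← List.toFinset_card_of_nodup ((List.nodup_finRange _).filter _)]
  congr 1
  ext r
  simp [invF, perm_el hS h, and_assoc]

theorem invF_card_mul {k : ℕ} {L : SubLevel} (hn : negOk D fm L.q = true)
    (hi : invarOk D R S fm k L = true) (hr : repsOk D R S fm k L = true) {u : List ℕ}
    (hu : u ∈ L.reps) {g : List ℕ} (hg : ∀ j ∈ g, j < k) :
    (invF h fm (el M S (u ++ g))).card =
      invCount D R S fm u + (invF h fm (el M S g)).card := by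
  classical
  have hQ : ∀ r : Root D, fm.testBit r = true → R.mask.testBit r = true →
      L.q.testBit r = true → R.mask.testBit (h.rootPerm (el M S u) r : Root D) = true := by
    intro r h1 h2 h3
    simp only [repsOk, Bool.and_eq_true, List.all_eq_true, List.mem_range, Bool.or_eq_true,
      Bool.not_eq_true'] at hr
    rw [perm_el hS h]
    rcases (hr u hu).2 r r.isLt with ((e | e) | e) | e <;> simp_all
  have hneg : ∀ r : Root D, fm.testBit r = true →
      fm.testBit (h.negRoot r : Root D) = true ∧
        L.q.testBit (h.negRoot r : Root D) = L.q.testBit r := by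
    intro r h1
    simp only [negOk, List.all_eq_true, List.mem_range, Bool.or_eq_true, Bool.not_eq_true',
      Bool.and_eq_true, beq_iff_eq] at hn
    exact (hn r r.isLt).resolve_left (by simp [h1])
  set a := el M S u with ha
  set x := el M S g with hx
  rw [invCount_eq hS h, ← ha, el_append, ← ha, ← hx, add_comm,
    ← Finset.card_image_of_injective (invF h fm a) (h.rootPerm x).symm.injective,
    ← Finset.card_union_of_disjoint]
  · congr 1
    ext r
    simp only [Finset.mem_union, Finset.mem_image, invF, Finset.mem_filter, Finset.mem_univ,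
      true_and, map_mul, Equiv.Perm.mul_apply, Equiv.symm_apply_eq]
    have hfx : fm.testBit (h.rootPerm x r : Root D) = fm.testBit r := fm_el hS h g r
    constructor
    · rintro ⟨h1, h2, h3⟩
      cases hp : R.mask.testBit (h.rootPerm x r : Root D)
      · exact Or.inl ⟨h1, h2, rfl⟩
      · exact Or.inr ⟨_, ⟨hfx.trans h1, hp, h3⟩, rfl⟩
    · rintro (⟨h1, h2, h3⟩ | ⟨y, ⟨h1, h2, h3⟩, rfl⟩)
      · refine ⟨h1, h2, ?_⟩
        obtain ⟨q1, -, q3⟩ := invar_el hS h hi g hg r h1
        have hq : L.q.testBit r = true := by
          by_contra hq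
          rw [q3 h2 (by simpa using hq)] at h3
          exact Bool.noConfusion h3
        obtain ⟨n1, n2⟩ := hneg (h.rootPerm x r) (hfx.trans h1)
        have := hQ (h.negRoot (h.rootPerm x r)) n1
          (by rw [mask_neg h, h3]; rfl) (by rw [n2, q1, hq])
        rw [h.rootPerm_neg, mask_neg h] at this
        simpa using this
      · refine ⟨hfx.symm.trans h1, ?_, h3⟩
        have hq : L.q.testBit (h.rootPerm x r : Root D) = false := by
          by_contra hq
          rw [hQ _ h1 h2 (by simpa using hq)] at h3
          exact Bool.noConfusion h3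
        have := (invar_el hS h hi g.reverse (by simpa using hg) _ h1).2.2 h2 hq
        rwa [el_reverse hS, map_inv, ← hx, Equiv.Perm.inv_def, Equiv.symm_apply_apply] at this
  · rw [Finset.disjoint_left]
    intro r hr hr'
    simp only [Finset.mem_image, invF, Finset.mem_filter, Finset.mem_univ, true_and,
      Equiv.symm_apply_eq] at hr hr'
    obtain ⟨y, ⟨-, hy, -⟩, rfl⟩ := hr'
    rw [hr.2.2] at hy
    exact Bool.noConfusion hy

theorem key_eq_of_mul_eq {k : ℕ} {L : SubLevel} (hi : invarOk D R S fm k L = true)
    {u u' g g' : List ℕ} (hg : ∀ j ∈ g, j < k) (hg' : ∀ j ∈ g', j < k)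
    (e : el M S u * el M S g = el M S u' * el M S g') :
    repKey D R S fm L.c u = repKey D R S fm L.c u' := by
  unfold repKey
  congr 1
  apply List.map_congr_left
  intro r hr
  simp only [List.mem_filter, List.mem_range] at hr
  have key : ∀ v w : List ℕ, (∀ j ∈ w, j < k) →
      L.c.getD (Weyl.rwalk R (flat S v).reverse r) 0 =
        L.c.getD (h.rootPerm (el M S v * el M S w)⁻¹ ⟨r, hr.1⟩ : Root D) 0 := by
    intro v w hw
    have hv : ((h.rootPerm (el M S v.reverse) ⟨r, hr.1⟩ : Root D) : ℕ) =
        Weyl.rwalk R (flat S v).reverse r := by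
      rw [el_reverse hS, el, ← wordProd_reverse,
        h.rootPerm_wordProd _ (fun j hj => flat_lt hS v j (List.mem_reverse.1 hj))]
    rw [← hv, mul_inv_rev, map_mul, Equiv.Perm.mul_apply, ← el_reverse hS, ← el_reverse hS]
    exact ((invar_el hS h hi w.reverse (by simpa using hw) _
      (by rw [fm_el hS h]; exact hr.2)).2.1).symm
  rw [key u g hg, key u' g' hg', e]

theorem nodup_prods {k : ℕ} {L : SubLevel} (hi : invarOk D R S fm k L = true)
    (hk : (L.reps.map (repKey D R S fm L.c)).Nodup) {P : List (List ℕ)}
    (hP : ∀ l ∈ P, ∀ j ∈ l, j < k) (hnd : (P.map (el M S)).Nodup) :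
    ((L.reps.flatMap fun u => P.map (u ++ ·)).map (el M S)).Nodup := by
  rw [List.map_flatMap, List.nodup_flatMap]
  refine ⟨fun u _ => ?_, ?_⟩
  · rw [List.map_map, show (el M S ∘ fun g => u ++ g) = (el M S u * ·) ∘ el M S from
      funext fun g => el_append u g, ← List.map_map]
    exact hnd.map (mul_right_injective _)
  · rw [List.nodup_iff_pairwise_ne, List.pairwise_map] at hk
    refine hk.imp fun {u u'} hne => ?_
    rw [Function.onFun, List.disjoint_left]
    intro y hy hy'
    simp only [List.mem_map, exists_exists_and_eq_and] at hy hy'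
    obtain ⟨g, hg, rfl⟩ := hy
    obtain ⟨g', hg', e⟩ := hy'
    rw [el_append, el_append] at e
    exact hne (key_eq_of_mul_eq hS h hi (hP _ hg) (hP _ hg') e.symm)

theorem prods_facts (q : ℕ) : ∀ (Ls : List SubLevel) (k : ℕ) (P : List (List ℕ)),
    subChainOk D R S fm k Ls = true → (∀ l ∈ P, ∀ j ∈ l, j < k) → (P.map (el M S)).Nodup →
    ((prods Ls P).map (el M S)).Nodup ∧
      (prods Ls P).length = (Ls.map fun L => L.reps.length).prod * P.length ∧
      ((prods Ls P).map fun l => q ^ (invF h fm (el M S l)).card).sum =
        (Ls.map fun L => Weyl.evalList q (subPoly D R S fm L)).prod *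
          (P.map fun l => q ^ (invF h fm (el M S l)).card).sum := by
  intro Ls
  induction Ls with
  | nil => intro k P _ _ hnd; simp [prods, hnd]
  | cons L Ls ih =>
    intro k P hc hP hnd
    simp only [subChainOk, subLevelOk, Bool.and_eq_true, decide_eq_true_eq] at hc
    obtain ⟨⟨⟨⟨⟨hn, hi⟩, hr⟩, hke⟩, hkn⟩, hc⟩ := hc
    have hP' : ∀ l ∈ L.reps.flatMap (fun u => P.map (u ++ ·)), ∀ j ∈ l, j < k + 1 := by
      intro l hl j hj
      simp only [List.mem_flatMap, List.mem_map] at hl
      obtain ⟨u, hu, g, hg, rfl⟩ := hl
      have hr' := hr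
      simp only [repsOk, Bool.and_eq_true, List.all_eq_true, decide_eq_true_eq] at hr'
      rcases List.mem_append.1 hj with hj | hj
      · exact (hr' u hu).1 j hj
      · exact Nat.lt_succ_of_lt (hP g hg j hj)
    obtain ⟨i1, i2, i3⟩ := ih (k + 1) _ hc hP' (nodup_prods hS h hi (hke ▸ hkn) hP hnd)
    have hlen : ∀ us : List (List ℕ), (us.flatMap fun u => P.map (u ++ ·)).length =
        us.length * P.length := fun us => by
      induction us with
      | nil => simp
      | cons u us ihu => simp [ihu, add_mul, add_comm]
    have hsum : ∀ us : List (List ℕ), (∀ u ∈ us, u ∈ L.reps) →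
        ((us.flatMap fun u => P.map (u ++ ·)).map fun l => q ^ (invF h fm (el M S l)).card).sum =
          (us.map fun u => q ^ invCount D R S fm u).sum *
            (P.map fun l => q ^ (invF h fm (el M S l)).card).sum := fun us hus => by
      induction us with
      | nil => simp
      | cons u us ihu =>
        have hu : ((P.map fun g => u ++ g).map fun l => q ^ (invF h fm (el M S l)).card) =
            P.map fun g => q ^ invCount D R S fm u * q ^ (invF h fm (el M S g)).card := by
          rw [List.map_map]
          apply List.map_congr_left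
          intro g hg
          simp only [Function.comp_apply]
          rw [invF_card_mul hS h hn hi hr (hus u List.mem_cons_self) (hP g hg), pow_add]
        rw [List.flatMap_cons, List.map_append, List.sum_append, List.map_cons, List.sum_cons,
          add_mul, ihu fun v hv => hus v (List.mem_cons_of_mem _ hv), hu, List.sum_map_mul_left]
    refine ⟨i1, ?_, ?_⟩
    · simp only [prods, List.map_cons, List.prod_cons]
      rw [i2, hlen]
      ring
    · simp only [prods, List.map_cons, List.prod_cons]
      rw [i3, hsum _ fun _ hu => hu, subPoly, Weyl.evalList_countList, List.map_map]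
      simp only [Function.comp_def]
      ring

end

variable (D R)

/-- The check of the fixed mask of a sign vector. -/
def fmOk (masks : List ℕ) (b fm : ℕ) : Bool :=
  (List.range D.nroots).all fun r => fm.testBit r == !sgn D masks b r

/-- The check of an orbit of sign vectors containing `b`. -/
def orbitOk (masks : List ℕ) (b : ℕ) (O : List ℕ) (path : List (ℕ × ℕ)) (pot : List ℕ) : Bool :=
  decide O.Nodup && O.contains b && O.all fun c =>
    decide (c < 2 ^ D.rank) &&
    (List.range D.rank).all (fun i =>
      O.contains (stepBits D masks i c) && stepOk D masks i c (stepBits D masks i c)) &&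
    (c == b || (O.contains (path.getD c (0, 0)).2 &&
      stepOk D masks (path.getD c (0, 0)).1 c (path.getD c (0, 0)).2 &&
      decide (pot.getD (path.getD c (0, 0)).2 0 < pot.getD c 0)))

/-- All checks for the stabilizer of a sign vector. -/
def stabOk (C : Weyl.Cert D.rank) (masks : List ℕ) (b : ℕ) (path : List (ℕ × ℕ)) (pot : List ℕ)
    (T : SubData) (degs : List ℕ) : Bool :=
  wordsOk D R T.words T.fm && fmOk D masks b T.fm && orbitOk D masks b T.orbit path pot &&
    subChainOk D R T.words T.fm 0 T.levels &&
    decide ((T.levels.map fun L => L.reps.length).prod * T.orbit.length =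
      (C.levels.map fun L => L.T.length).prod) &&
    decide (Weyl.prodList (T.levels.map (subPoly D R T.words T.fm)) =
      Weyl.prodList (degs.map fun d => List.replicate d 1))

variable {D R}

theorem sgn_wPerm_of_step (hW : GoodWeyl D) {masks : List ℕ} (hok : maskOk D masks = true)
    {i : Fin D.rank} {b b' : ℕ} (hb : b < 2 ^ D.rank) (hs : stepOk D masks i b b' = true)
    (r : Root D) : sgn D masks b (wPerm hW i r : Root D) = sgn D masks b' r := by
  have e := nR_conj_tInv (F := ℚ) hW hok hb hs
  rw [tInv, tor_mul_nR, mul_inv_cancel_right] at e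
  exact unitOf_injective (F := ℚ) two_ne_zero (congrFun (tor_injective (e : _ = tor _)) r)

theorem card_stab_mul (hW : GoodWeyl D) (h : Weyl.RootGood C M R) [Fintype M.Group]
    {masks : List ℕ} (hok : maskOk D masks = true) {b : ℕ} {O : List ℕ} {path : List (ℕ × ℕ)}
    {pot : List ℕ} (hO : orbitOk D masks b O path pot = true)
    [DecidablePred fun w : M.Group =>
      ∀ r : Root D, sgn D masks b (h.rootPerm w r) = sgn D masks b r] :
    (Finset.univ.filter fun w : M.Group =>
      ∀ r : Root D, sgn D masks b (h.rootPerm w r) = sgn D masks b r).card * O.length =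
      Nat.card M.Group := by
  classical
  simp only [orbitOk, Bool.and_eq_true, decide_eq_true_eq, List.contains_iff_mem, List.all_eq_true,
    List.mem_range, Bool.or_eq_true, beq_iff_eq] at hO
  obtain ⟨⟨hnd, hbO⟩, hO⟩ := hO
  let f : ℕ → Root D → Bool := fun c r => sgn D masks c r
  let Φ : M.Group → Root D → Bool := fun w r => sgn D masks b (h.rootPerm w r)
  have hstep : ∀ (w : M.Group) (i : Fin D.rank) (c c' : ℕ), c < 2 ^ D.rank →
      stepOk D masks i c c' = true → Φ w = f c → Φ (w * M.simple i) = f c' := by
    intro w i c c' hc hs e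
    funext r
    show sgn D masks b (h.rootPerm (w * M.simple i) r) = _
    rw [map_mul, Equiv.Perm.mul_apply]
    refine (congrFun e _).trans ?_
    show sgn D masks c (h.rootPerm (M.simple i) r : Root D) = _
    rw [← wPerm_eq_rootPerm hW h i]
    exact sgn_wPerm_of_step hW hok hc hs r
  have hinv : ∀ (w : M.Group) (i : Fin D.rank) (c c' : ℕ), c < 2 ^ D.rank →
      stepOk D masks i c c' = true → Φ w = f c' → Φ (w * M.simple i) = f c := by
    intro w i c c' hc hs e
    funext r
    show sgn D masks b (h.rootPerm (w * M.simple i) r) = _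
    rw [map_mul, Equiv.Perm.mul_apply]
    refine (congrFun e _).trans ?_
    show sgn D masks c' (h.rootPerm (M.simple i) r : Root D) = _
    rw [← wPerm_eq_rootPerm hW h i, ← sgn_wPerm_of_step hW hok hc hs, hW.wPerm_wPerm]
  have himg : ∀ w : M.Group, Φ w ∈ (O.map f).toFinset := by
    intro w
    induction w using M.toCoxeterSystem.simple_induction_right with
    | one =>
      refine List.mem_toFinset.2 (List.mem_map.2 ⟨b, hbO, ?_⟩)
      funext r
      simp [Φ, f]
    | mul_simple_right w i ih =>
      simp only [List.mem_toFinset, List.mem_map] at ih ⊢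
      obtain ⟨c, hc, e⟩ := ih
      obtain ⟨hm, hs⟩ := (hO c hc).1.2 i i.isLt
      rw [CoxeterMatrix.toCoxeterSystem_simple]
      exact ⟨_, hm, (hstep w i c _ (hO c hc).1.1 hs e.symm).symm⟩
  have hsurj : ∀ c ∈ O, ∃ w : M.Group, Φ w = f c := by
    intro c
    induction hn : pot.getD c 0 using Nat.strong_induction_on generalizing c with
    | _ n ih =>
      subst hn
      intro hc
      rcases (hO c hc).2 with rfl | ⟨⟨hm, hs⟩, hp⟩
      · exact ⟨1, funext fun r => by simp [Φ, f]⟩
      · have hi := hs
        simp only [stepOk, Bool.and_eq_true, decide_eq_true_eq] at hi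
        obtain ⟨w, hw⟩ := ih _ hp _ rfl hm
        exact ⟨w * M.simple ⟨_, hi.1.1⟩, hinv w ⟨_, hi.1.1⟩ c _ (hO c hc).1.1 hs hw⟩
  have hfib : ∀ F' ∈ (O.map f).toFinset, (Finset.univ.filter fun w : M.Group => Φ w = F').card =
      (Finset.univ.filter fun w : M.Group =>
        ∀ r : Root D, sgn D masks b (h.rootPerm w r) = sgn D masks b r).card := by
    intro F' hF
    simp only [List.mem_toFinset, List.mem_map] at hF
    obtain ⟨c, hc, rfl⟩ := hF
    obtain ⟨w0, hw0⟩ := hsurj c hc
    refine Finset.card_bij' (fun w _ => w * w0⁻¹) (fun w _ => w * w0) ?_ ?_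
      (fun w _ => inv_mul_cancel_right w w0) (fun w _ => mul_inv_cancel_right w w0)
    · intro w hw
      simp only [Finset.mem_filter, Finset.mem_univ, true_and] at hw ⊢
      intro r
      have := congrFun (hw.trans hw0.symm) (h.rootPerm w0⁻¹ r)
      simp only [Φ, ← Equiv.Perm.mul_apply, ← map_mul, mul_inv_cancel, map_one,
        Equiv.Perm.one_apply] at this
      exact this
    · intro w hw
      simp only [Finset.mem_filter, Finset.mem_univ, true_and] at hw ⊢
      rw [← hw0]
      funext r
      simp only [Φ, map_mul, Equiv.Perm.mul_apply]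
      exact hw _
  have hinjf : ∀ c ∈ O, ∀ c' ∈ O, f c = f c' → c = c' := by
    intro c hc c' hc' e
    apply Nat.eq_of_testBit_eq
    intro j
    rcases Nat.lt_or_ge j D.rank with hj | hj
    · have := congrFun e (pRoot hW ⟨j, hj⟩)
      simp only [f, sgn_simple hW hok] at this
      exact this
    · rw [Nat.testBit_lt_two_pow ((hO c hc).1.1.trans_le (Nat.pow_le_pow_right two_pos hj)),
        Nat.testBit_lt_two_pow ((hO c' hc').1.1.trans_le (Nat.pow_le_pow_right two_pos hj))]
  rw [Nat.card_eq_fintype_card, ← Finset.card_univ,
    Finset.card_eq_sum_card_fiberwise (f := Φ) (s := Finset.univ) (t := (O.map f).toFinset) (fun w _ => himg w),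
    Finset.sum_congr rfl hfib, Finset.sum_const, smul_eq_mul,
    List.toFinset_card_of_nodup (hnd.map_on hinjf), List.length_map, mul_comm]

theorem invF_card_eq (hW : GoodWeyl D) (h : Weyl.RootGood C M R) {masks : List ℕ} {b : ℕ}
    (hfm : fmOk D masks b fm = true) (w : M.Group) :
    Nat.card (fixRoots D masks b (invRoots h w) : Set (Root D)) = (invF h fm w).card := by
  rw [Nat.subtype_card]
  intro r
  simp only [fmOk, List.all_eq_true, List.mem_range, beq_iff_eq] at hfm
  have e : ∀ x : Root D, R.mask.testBit x = true ↔ half D ≤ (x : ℕ) := fun x =>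
    (h.mask_iff x.isLt).trans (posIdx_iff hW.good h x)
  simp only [invF, Finset.mem_filter, Finset.mem_univ, true_and, fixRoots, invRoots,
    Set.mem_ofPred_eq, hfm r r.isLt, e, Bool.not_eq_true', Bool.eq_false_iff, ne_eq, Nat.not_le]
  tauto

/-- The length generating function of the stabilizer of a sign vector. -/
theorem sum_stab (hW : GoodWeyl D) (h : Weyl.RootGood C M R) [Fintype M.Group] {masks : List ℕ}
    (hok : maskOk D masks = true) {b : ℕ} {path : List (ℕ × ℕ)} {pot : List ℕ} {T : SubData}
    {degs : List ℕ} (hT : stabOk D R C masks b path pot T degs = true)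
    [DecidablePred fun w : M.Group =>
      ∀ r : Root D, sgn D masks b (h.rootPerm w r) = sgn D masks b r] (q : ℕ) :
    ∑ w ∈ Finset.univ.filter (fun w : M.Group =>
        ∀ r : Root D, sgn D masks b (h.rootPerm w r) = sgn D masks b r),
      q ^ Nat.card (fixRoots D masks b (invRoots h w) : Set (Root D)) =
      (degs.map fun d => ∑ i ∈ Finset.range d, q ^ i).prod := by
  classical
  simp only [stabOk, Bool.and_eq_true, decide_eq_true_eq] at hT
  obtain ⟨⟨⟨⟨⟨hS, hfm⟩, hO⟩, hc⟩, hcard⟩, hpoly⟩ := hT
  obtain ⟨hnd, hlen, hsum⟩ := prods_facts hS h q T.levels 0 [[]] hc (by simp) (by simp)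
  have hset : ((prods T.levels [[]]).map (el M T.words)).toFinset =
      Finset.univ.filter (fun w : M.Group =>
        ∀ r : Root D, sgn D masks b (h.rootPerm w r) = sgn D masks b r) := by
    refine Finset.eq_of_subset_of_card_le ?_ ?_
    · intro w hw
      simp only [List.mem_toFinset, List.mem_map] at hw
      obtain ⟨l, -, rfl⟩ := hw
      simp only [Finset.mem_filter, Finset.mem_univ, true_and]
      intro r
      have e := fm_el hS h l r
      simp only [fmOk, List.all_eq_true, List.mem_range, beq_iff_eq] at hfm
      rw [hfm _ (Fin.isLt _), hfm _ r.isLt] at e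
      simpa using e
    · rw [List.toFinset_card_of_nodup hnd, List.length_map, hlen, List.length_singleton, mul_one]
      have hOne : 0 < T.orbit.length := by
        simp only [orbitOk, Bool.and_eq_true, List.contains_iff_mem] at hO
        exact List.length_pos_of_mem hO.1.2
      refine le_of_eq (Nat.eq_of_mul_eq_mul_right hOne ?_)
      rw [card_stab_mul hW h hok hO, h.good.card_group, hcard]
  rw [← hset, List.sum_toFinset _ hnd, List.map_map]
  simp only [Function.comp_def, invF_card_eq hW h hfm]
  rw [hsum]
  have h0 : (invF h T.fm (el M T.words ([] : List ℕ))).card = 0 := by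
    rw [Finset.card_eq_zero, el_nil, invF, Finset.filter_eq_empty_iff]
    simp
  rw [List.map_singleton, List.sum_singleton, h0, pow_zero, mul_one]
  have := congrArg (Weyl.evalList q) hpoly
  simpa [Weyl.evalList_prodList, List.map_map, Function.comp_def,
    Weyl.evalList_replicate_one] using this

/-- The number of positive fixed roots. -/
theorem card_fix_pos (hW : GoodWeyl D) (h : Weyl.RootGood C M R) {masks : List ℕ} {b : ℕ}
    (hfm : fmOk D masks b fm = true) :
    Nat.card (fixRoots D masks b (posSet D) : Set (Root D)) =
      (List.range D.nroots).countP fun r => fm.testBit r && R.mask.testBit r := by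
  classical
  rw [← List.map_coe_finRange_eq_range, List.countP_map, List.countP_eq_length_filter,
    ← List.toFinset_card_of_nodup ((List.nodup_finRange _).filter _)]
  rw [Nat.subtype_card]
  intro r
  simp only [fmOk, List.all_eq_true, List.mem_range, beq_iff_eq] at hfm
  have e : R.mask.testBit r = true ↔ half D ≤ (r : ℕ) :=
    (h.mask_iff r.isLt).trans (posIdx_iff hW.good h r)
  simp only [List.mem_toFinset, List.mem_filter, List.mem_finRange, true_and, Function.comp_apply,
    Bool.and_eq_true, hfm r r.isLt, e, fixRoots, posSet, Set.mem_ofPred_eq, Bool.not_eq_true']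
  tauto

end CfsgLib.ChevOddInvol
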