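import Cfsg.Agent.ChevOddInvol.Reflect
import Mathlib.Data.Rat.Defs
import Mathlib.FieldTheory.Finite.Basic
import Mathlib.Algebra.Group.Even

/-!
# Monomial involutions are conjugate into the torus
-/

set_option autoImplicit false

namespace CfsgLib.ChevOddInvol

open Cfsg.Lie CfsgLib.Chevalley

variable {D : ChevalleyDatum} {C : Weyl.Cert D.rank} {M : CoxeterMatrix (Fin D.rank)}
  {R : Weyl.RootTable} {F : Type*} [Field F]

theorem exists_eq_rootPerm_pRoot (hW : GoodWeyl D) (h : Weyl.RootGood C M R) (r : Root D) :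
    ∃ (g : M.Group) (i : Fin D.rank), h.rootPerm g (pRoot hW i) = r := by
  refine hW.root_induction (P := fun r => ∃ (g : M.Group) (i : Fin D.rank),
    h.rootPerm g (pRoot hW i) = r) (fun i => ⟨1, i, by simp⟩) ?_ r
  rintro j s ⟨g, i, e⟩
  exact ⟨M.simple j * g, i, by
    rw [map_mul, Equiv.Perm.mul_apply, e, wPerm_eq_rootPerm hW h]⟩

theorem reflData_perm (hW : GoodWeyl D) (h : Weyl.RootGood C M R) {r : Root D}
    {ρ : Equiv.Perm (Root D)} (hρ : ReflData hW F r ρ) {g : M.Group} {i : Fin D.rank}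
    (e : h.rootPerm g (pRoot hW i) = r) : ρ = h.rootPerm (g * M.simple i * g⁻¹) := by
  have hm := monBy_nW (F := F) hW h g
  obtain ⟨u, hu⟩ := hm.conj_nElt (pRoot hW i) 1
  rw [e, nElt_one, nElt_eq_hT_mul hW] at hu
  have h2 := (monBy_diag hW (hT_mem_diagonal (F := F) hW r u)).mul hρ.mon
  rw [one_mul, ← hu] at h2
  rw [map_mul, map_mul, map_inv, ← wPerm_eq_rootPerm hW h]
  exact h2.unique ((hm.mul (monBy_nR hW i)).mul hm.inv)

/-- The reflection of a root in the Weyl group. -/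
noncomputable def refl (hW : GoodWeyl D) (h : Weyl.RootGood C M R) (r : Root D) : M.Group :=
  (exists_refl hW h ℚ r).choose

theorem reflData_refl (hW : GoodWeyl D) (h : Weyl.RootGood C M R) (r : Root D) :
    ReflData hW F r (h.rootPerm (refl hW h r)) := by
  obtain ⟨ρ, hρ⟩ := exists_reflData (F := F) hW r
  obtain ⟨g, i, e⟩ := exists_eq_rootPerm_pRoot hW h r
  have h1 := reflData_perm hW h hρ e
  rw [← reflData_perm (F := ℚ) hW h (exists_refl hW h ℚ r).choose_spec e] at h1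
  exact h1 ▸ hρ

/-- The condition on the Weyl group: a nontrivial involution negates a root `r` and either also a root
of odd pairing with `r`, or moves a root `v` of pairing `1` with `r` as the reflection of `r`. -/
def InvolGood (hW : GoodWeyl D) (h : Weyl.RootGood C M R) : Prop :=
  ∀ w : M.Group, w * w = 1 → w ≠ 1 → ∃ r : Root D, h.rootPerm w r = r.rev ∧
    ((∃ a : Root D, h.rootPerm w a = a.rev ∧ Odd (D.pairing r a)) ∨
      ∃ v : Root D, D.pairing r v = 1 ∧ h.rootPerm w v = h.rootPerm (refl hW h r) v)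

theorem sup_rootSubgroup_le (hW : GoodWeyl D) (r s : Root D) :
    D.rootSubgroup F r ⊔ D.rootSubgroup F s ≤ D.group F := by
  have : ∀ r : Root D, D.rootSubgroup F r ≤ D.group F := fun r g hg => by
    obtain ⟨t, rfl⟩ := (mem_rootSubgroup_iff hW.good).1 hg
    exact X_mem_group hW.good r t
  exact sup_le (this r) (this s)

theorem neg_pow_odd {G : Type*} [Group G] [HasDistribNeg G] {k : ℤ} (hk : Odd k) :
    (-1 : G) ^ k = -1 := hk.neg_one_zpow

theorem isSquare_zpow_odd {G : Type*} [CommGroup G] {u : G} {k : ℤ} (hk : Odd k) :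
    IsSquare (u ^ k * u) := by
  obtain ⟨m, rfl⟩ := hk
  exact ⟨u ^ (m + 1), by rw [← zpow_add, ← zpow_add_one]; congr 1; ring⟩

theorem unit_not_square_mul [Fintype F] {a b : Fˣ} (ha : ¬ IsSquare a) (hb : ¬ IsSquare b) :
    IsSquare (a * b) := by
  obtain ⟨g, hg⟩ := IsCyclic.exists_generator (α := Fˣ)
  obtain ⟨i, rfl⟩ := Subgroup.mem_zpowers_iff.1 (hg a)
  obtain ⟨j, rfl⟩ := Subgroup.mem_zpowers_iff.1 (hg b)
  have hodd : ∀ m : ℤ, ¬ IsSquare (g ^ m) → Odd m := fun m hm => by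
    rcases Int.even_or_odd m with ⟨t, rfl⟩ | ho
    · exact absurd ⟨g ^ t, by rw [← zpow_add]⟩ hm
    · exact ho
  obtain ⟨t, ht⟩ := (hodd i ha).add_odd (hodd j hb)
  exact ⟨g ^ t, by rw [← zpow_add, ← zpow_add, ht]⟩

variable (hW : GoodWeyl D) (h : Weyl.RootGood C M R)

include h in
theorem split_step {n : GL D.Idx F} {w : M.Group} (hn : n ∈ D.monomialSubgroup F)
    (hmon : MonBy hW n (h.rootPerm w)) (hsq : n * n = 1) (h2F : (2 : F) ≠ 0) {r : Root D}
    (hr : h.rootPerm w r = r.rev) {c : Fˣ} (hc : IsSquare c)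
    (h1 : ∀ t, n * X hW.good r t * n⁻¹ = X hW.good r.rev ((c : F) * t))
    (h2 : ∀ t, n * X hW.good r.rev t * n⁻¹ = X hW.good r (((c⁻¹ : Fˣ) : F) * t)) :
    ∃ x ∈ D.group F, ∃ w' : M.Group, MonBy hW (x * n * x⁻¹) (h.rootPerm w') ∧
      x * n * x⁻¹ ∈ D.monomialSubgroup F ∧
      (∀ s, h.rootPerm w s = s → h.rootPerm w' s = s) ∧ h.rootPerm w' r = r := by
  obtain ⟨φ, hu, hv⟩ := exists_sl2Hom (F := F) hW r
  obtain ⟨d, hd⟩ := hc
  obtain ⟨g, hg⟩ := conj_split hW hu hv h2F hd h1 h2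
  have hρ := reflData_refl (F := F) hW h r
  have hN : nElt hW.good r d⁻¹ ∈ D.monomialSubgroup F := by
    rw [nElt_eq_hT_mul hW]
    exact mul_mem (diag_le_monomial D (hT_mem_diagonal hW r _)) hρ.mem
  have hNmon : MonBy hW (nElt hW.good r d⁻¹ : GL D.Idx F) (h.rootPerm (refl hW h r)) := by
    rw [nElt_eq_hT_mul hW]
    have := (monBy_diag hW (hT_mem_diagonal (F := F) hW r d⁻¹)).mul hρ.mon
    rwa [one_mul] at this
  refine ⟨φ g, ?_, refl hW h r * w, ?_, ?_, fun s hs => ?_, ?_⟩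
  · have hmem : φ g ∈ D.rootSubgroup F r ⊔ D.rootSubgroup F r.rev :=
      range_sl2Hom hW hu hv ▸ ⟨g, rfl⟩
    exact (sup_rootSubgroup_le hW r r.rev) hmem
  · rw [hg, map_mul]; exact hNmon.mul hmon
  · rw [hg]; exact mul_mem hN hn
  · rw [map_mul, Equiv.Perm.mul_apply, hs]
    refine hρ.fix s ?_
    have := pairing_rootPerm hW h w r s
    rw [hr, hs, pairing_rev_left hW.good] at this
    omega
  · rw [map_mul, Equiv.Perm.mul_apply, hr, hρ.mon.apply_rev, hρ.self, Fin.rev_rev]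

/-- If `a` and `r` are negated with odd pairing, some conjugate of `n` by the group has a split root. -/
theorem exists_split_pair [Fintype F] (hF : Odd (Fintype.card F)) {n : GL D.Idx F} {w : M.Group}
    (hn : n ∈ D.monomialSubgroup F) (hmon : MonBy hW n (h.rootPerm w))
    {r a : Root D} (hr : h.rootPerm w r = r.rev) (ha : h.rootPerm w a = a.rev)
    (hodd : Odd (D.pairing r a)) :
    ∃ x ∈ D.group F, x * n * x⁻¹ ∈ D.monomialSubgroup F ∧ MonBy hW (x * n * x⁻¹) (h.rootPerm w) ∧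
      ∃ (b : Root D) (c : Fˣ), h.rootPerm w b = b.rev ∧ IsSquare c ∧
        (∀ t, x * n * x⁻¹ * X hW.good b t * (x * n * x⁻¹)⁻¹ = X hW.good b.rev ((c : F) * t)) ∧
        ∀ t, x * n * x⁻¹ * X hW.good b.rev t * (x * n * x⁻¹)⁻¹ =
          X hW.good b (((c⁻¹ : Fˣ) : F) * t) := by
  obtain ⟨cr, hr1, hr2⟩ := hmon r
  obtain ⟨ca, ha1, ha2⟩ := hmon a
  rw [hr] at hr1 hr2
  rw [ha] at ha1 ha2
  simp only [Fin.rev_rev] at hr2 ha2
  by_cases hsr : IsSquare cr
  · exact ⟨1, one_mem _, by simpa using hn, by simpa using hmon, r, cr, hr, hsr,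
      by simpa using hr1, by simpa using hr2⟩
  by_cases hsa : IsSquare ca
  · exact ⟨1, one_mem _, by simpa using hn, by simpa using hmon, a, ca, ha, hsa,
      by simpa using ha1, by simpa using ha2⟩
  obtain ⟨φ, hu, hv⟩ := exists_sl2Hom (F := F) hW r
  by_cases hneg : IsSquare (-1 : Fˣ)
  · -- the third root is split
    refine ⟨1, one_mem _, by simpa using hn, by simpa using hmon, ?_⟩
    have hρ := reflData_refl (F := F) hW h r
    set ρ := h.rootPerm (refl hW h r) with hρdef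
    set b := ρ a with hb
    obtain ⟨z, hz1, hz2⟩ := hρ.mon a
    rw [← hb] at hz1 hz2
    obtain ⟨cb, hb1, hb2⟩ := hmon b
    set u : Fˣ := -(cr * 1)⁻¹ with hudef
    have hN : n * nElt hW.good r 1 * n⁻¹ = hT F r u * nElt hW.good r 1 := by
      rw [← nElt_eq_hT_mul hW, hudef, ← nElt_rev hW hu hv, nElt,
        show ∀ n x y z : GL D.Idx F,
          n * (x * y * z) * n⁻¹ = (n * x * n⁻¹) * (n * y * n⁻¹) * (n * z * n⁻¹) from
          fun n x y z => by group, hr1, hr2, nElt, Fin.rev_rev]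
      simp
    have key : ∀ v : F, X hW.good (h.rootPerm w b) ((cb : F) * ((z : F) * v)) =
        X hW.good b.rev (((u ^ D.pairing r (b.rev : Root D) : Fˣ) : F) *
          (((z⁻¹ : Fˣ) : F) * ((ca : F) * v))) := by
      intro v
      have e2 : n * (nElt hW.good r 1 * X hW.good a v * (nElt hW.good r 1)⁻¹) * n⁻¹ =
          (n * nElt hW.good r 1 * n⁻¹) * (n * X hW.good a v * n⁻¹) *
            (n * nElt hW.good r 1 * n⁻¹)⁻¹ := by group
      rw [hz1, hb1, hN, ha1, show ∀ p q y : GL D.Idx F, p * q * y * (p * q)⁻¹ =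
        p * (q * y * q⁻¹) * p⁻¹ from fun p q y => by group, hz2, hT_conj_X hW] at e2
      exact e2
    have hwb : h.rootPerm w b = b.rev := by
      by_contra hne
      exact X_ne hW.toGoodUni hne (by simp [cb.ne_zero, z.ne_zero] : (cb : F) * ((z : F) * 1) ≠ 0) _
        (key 1)
    refine ⟨b, cb, hwb, ?_, ?_, ?_⟩
    · have e := key 1
      rw [hwb] at e
      have e' : cb * z = u ^ D.pairing r (b.rev : Root D) * (z⁻¹ * ca) := by
        refine Units.ext ?_
        have := X_injective hW.good _ e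
        simpa using this
      have hcb : cb = u ^ D.pairing r (b.rev : Root D) * ca * (z⁻¹ * z⁻¹) := by
        rw [eq_mul_inv_iff_mul_eq.2 e']; simp [mul_assoc, mul_comm, mul_left_comm]
      rw [hcb, pairing_rev_right hW.good, hρ.neg, neg_neg]
      refine IsSquare.mul ?_ ⟨_, rfl⟩
      have h3 := isSquare_zpow_odd (u := u) hodd
      have hu' : IsSquare (u⁻¹ * ca) := by
        rw [show u⁻¹ = -1 * cr by simp [hudef], mul_assoc]
        exact hneg.mul (unit_not_square_mul hsr hsa)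
      have := h3.mul hu'
      rwa [mul_assoc, mul_inv_cancel_left] at this
    · simpa [hwb] using hb1
    · simpa [hwb] using hb2
  · -- flip the sign at `r`
    obtain ⟨g, hg⟩ := conj_flip hW hu hv hF hr1 hr2
    have hmem : φ g ∈ D.group F :=
      (sup_rootSubgroup_le hW r r.rev)
        (range_sl2Hom hW hu hv ▸ ⟨g, rfl⟩)
    refine ⟨φ g, hmem, ?_, ?_, a, -1 * ca, ha, unit_not_square_mul hneg hsa, fun t => ?_,
      fun t => ?_⟩
    · rw [hg]; exact mul_mem (diag_le_monomial D (hT_mem_diagonal hW r _)) hn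
    · rw [hg]
      have := (monBy_diag hW (hT_mem_diagonal (F := F) hW r (-1))).mul hmon
      rwa [one_mul] at this
    · rw [hg, show ∀ p q y : GL D.Idx F, p * q * y * (p * q)⁻¹ = p * (q * y * q⁻¹) * p⁻¹ from
        fun p q y => by group, ha1, hT_conj_X hW, pairing_rev_right hW.good,
        neg_pow_odd hodd.neg, Units.val_mul, mul_assoc]
    · rw [hg, show ∀ p q y : GL D.Idx F, p * q * y * (p * q)⁻¹ = p * (q * y * q⁻¹) * p⁻¹ from
        fun p q y => by group, ha2, hT_conj_X hW, neg_pow_odd hodd]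
      simp

include h in
/-- A root of pairing `1` moved as by the reflection of `r` makes `r` split. -/
theorem isSquare_of_moved {n : GL D.Idx F} {w : M.Group} (hmon : MonBy hW n (h.rootPerm w))
    (hsq : n * n = 1) {r v : Root D} {c : Fˣ} (hv1 : D.pairing r v = 1)
    (hwv : h.rootPerm w v = h.rootPerm (refl hW h r) v)
    (h1 : ∀ t, n * X hW.good r t * n⁻¹ = X hW.good r.rev ((c : F) * t))
    (h2 : ∀ t, n * X hW.good r.rev t * n⁻¹ = X hW.good r (((c⁻¹ : Fˣ) : F) * t)) :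
    IsSquare c := by
  obtain ⟨φ, hu, hv⟩ := exists_sl2Hom (F := F) hW r
  have hρ := reflData_refl (F := F) hW h r
  set ρ := h.rootPerm (refl hW h r) with hρdef
  set N : GL D.Idx F := nElt hW.good r 1 with hNdef
  have hN2 : N * N = hT F r (-1) := by
    have := hElt_eq hW r (-1 : Fˣ)
    rw [nElt_neg, ← hNdef, ← mul_inv_rev] at this
    rw [← inv_inv (N * N), this, hT_inv, inv_neg, inv_one]
  obtain ⟨a, ha⟩ := hmon.conj_X v
  rw [hwv] at ha
  have ha' : ∀ t, n * X hW.good (ρ v) t * n⁻¹ = X hW.good v (((a⁻¹ : Fˣ) : F) * t) := by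
    intro t
    have hn : n⁻¹ = n := inv_eq_of_mul_eq_one_right hsq
    have e := ha (((a⁻¹ : Fˣ) : F) * t)
    rw [← mul_assoc, Units.mul_inv, one_mul] at e
    rw [← e, hn]
    calc n * (n * X hW.good v (((a⁻¹ : Fˣ) : F) * t) * n) * n
        = (n * n) * X hW.good v (((a⁻¹ : Fˣ) : F) * t) * (n * n) := by simp only [mul_assoc]
      _ = _ := by rw [hsq, one_mul, mul_one]
  obtain ⟨z1, hz1, -⟩ := hρ.mon v
  obtain ⟨z2, hz2, -⟩ := hρ.mon (ρ v)
  have hρ2 : ρ (ρ v) = v := by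
    have hh := (hρ.mon.mul hρ.mon).unique (hN2 ▸ monBy_diag hW (hT_mem_diagonal hW r (-1)))
    exact Equiv.Perm.ext_iff.1 hh v
  rw [hρ2] at hz2
  have e12 : z2 * z1 = -1 := by
    have e1 : N * (N * X hW.good v 1 * N⁻¹) * N⁻¹ = (N * N) * X hW.good v 1 * (N * N)⁻¹ := by group
    rw [hz1, hz2, hN2, hT_conj_X hW, hv1, zpow_one] at e1
    refine Units.ext ?_
    have := X_injective hW.good _ e1
    simpa using this
  have hN : n * N * n⁻¹ = hT F r (-c⁻¹) * N := by
    rw [hNdef, ← nElt_eq_hT_mul hW, ← nElt_rev hW hu hv, nElt,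
      show ∀ n x y z : GL D.Idx F,
        n * (x * y * z) * n⁻¹ = (n * x * n⁻¹) * (n * y * n⁻¹) * (n * z * n⁻¹) from
        fun n x y z => by group, h1, h2, nElt, Fin.rev_rev]
    simp
  have key : n * (N * (n * X hW.good (ρ v) 1 * n⁻¹) * N⁻¹) * n⁻¹ =
      hT F r (-c⁻¹) * (N * X hW.good (ρ v) 1 * N⁻¹) * (hT F r (-c⁻¹))⁻¹ := by
    have hn : n⁻¹ = n := inv_eq_of_mul_eq_one_right hsq
    have e : n * (N * (n * X hW.good (ρ v) 1 * n⁻¹) * N⁻¹) * n⁻¹ =
        (n * N * n⁻¹) * (n * n * X hW.good (ρ v) 1 * (n * n)⁻¹) * (n * N * n⁻¹)⁻¹ := by group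
    rw [e, hsq, hN]
    group
  rw [ha', hz1, ha', hz2, hT_conj_X hW, hv1, zpow_one] at key
  have e := X_injective hW.good _ key
  have eu : a⁻¹ * (z1 * a⁻¹) = -c⁻¹ * z2 := Units.ext (by simpa using e)
  refine ⟨a * z1⁻¹, ?_⟩
  have hz : z2 = -z1⁻¹ := by
    rw [eq_mul_inv_of_mul_eq e12, neg_one_mul]
  rw [hz, neg_mul_neg] at eu
  rw [← inv_inj]
  calc c⁻¹ = c⁻¹ * z1⁻¹ * z1 := by rw [inv_mul_cancel_right]
    _ = a⁻¹ * (z1 * a⁻¹) * z1 := by rw [eu]
    _ = (a * z1⁻¹ * (a * z1⁻¹))⁻¹ := by simp [mul_assoc, mul_comm, mul_left_comm]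

/-- A monomial involution is conjugate in the group to an element of the torus. -/
theorem exists_conj_diag [Fintype F] (hF : Odd (Fintype.card F)) (hG : InvolGood hW h)
    {n : GL D.Idx F} (hn : n ∈ D.monomialSubgroup F) (hsq : n * n = 1) :
    ∃ x ∈ D.group F, x * n * x⁻¹ ∈ D.diagonalSubgroup F := by
  classical
  have h2F : (2 : F) ≠ 0 := Ring.two_ne_zero fun hc => (Nat.not_even_iff_odd.2 hF)
    (Nat.even_iff.2 (FiniteField.even_card_of_char_two hc))
  suffices H : ∀ k, ∀ n ∈ D.monomialSubgroup F, n * n = 1 → ∀ w : M.Group,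
      MonBy hW n (h.rootPerm w) →
      (Finset.univ.filter fun s => h.rootPerm w s ≠ s).card = k →
      ∃ x ∈ D.group F, x * n * x⁻¹ ∈ D.diagonalSubgroup F by
    exact H _ n hn hsq _ (monBy_weylHom hW h ⟨n, hn⟩) rfl
  intro k
  induction k using Nat.strong_induction_on with
  | _ k ih =>
    intro n hn hsq w hmon hk
    have hwN : weylHom hW h ⟨n, hn⟩ = w := weylHom_eq hW h hmon
    have hww : w * w = 1 := by
      rw [← hwN, ← map_mul]
      convert map_one (weylHom (F := F) hW h)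
      exact Subtype.ext hsq
    by_cases hw1 : w = 1
    · refine ⟨1, one_mem _, ?_⟩
      have : (⟨n, hn⟩ : ↥(D.monomialSubgroup F)) ∈ (weylHom (F := F) hW h).ker := by
        rw [MonoidHom.mem_ker, hwN, hw1]
      rw [ker_weylHom, Subgroup.mem_subgroupOf] at this
      simpa using this
    obtain ⟨x, hx, hxn, hxm, b, c, hb, hc, hb1, hb2⟩ :
        ∃ x ∈ D.group F, x * n * x⁻¹ ∈ D.monomialSubgroup F ∧
          MonBy hW (x * n * x⁻¹) (h.rootPerm w) ∧
          ∃ (b : Root D) (c : Fˣ), h.rootPerm w b = b.rev ∧ IsSquare c ∧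
          (∀ t, x * n * x⁻¹ * X hW.good b t * (x * n * x⁻¹)⁻¹ =
            X hW.good b.rev ((c : F) * t)) ∧
          ∀ t, x * n * x⁻¹ * X hW.good b.rev t * (x * n * x⁻¹)⁻¹ =
            X hW.good b (((c⁻¹ : Fˣ) : F) * t) := by
      obtain ⟨r, hr, ⟨a, ha, hodd⟩ | ⟨v, hv1, hwv⟩⟩ := hG w hww hw1
      · exact exists_split_pair hW h hF hn hmon hr ha hodd
      · obtain ⟨c, hc1, hc2⟩ := hmon r
        rw [hr] at hc1 hc2
        simp only [Fin.rev_rev] at hc2
        exact ⟨1, one_mem _, by simpa using hn, by simpa using hmon, r, c, hr,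
          isSquare_of_moved hW h hmon hsq hv1 hwv hc1 hc2, by simpa using hc1, by simpa using hc2⟩
    have hxsq : x * n * x⁻¹ * (x * n * x⁻¹) = 1 := by
      rw [show x * n * x⁻¹ * (x * n * x⁻¹) = x * (n * n) * x⁻¹ by group, hsq]; group
    obtain ⟨y, hy, w', hm', hn', hfix, hbfix⟩ :=
      split_step hW h hxn hxm hxsq h2F hb hc hb1 hb2
    have hlt : (Finset.univ.filter fun s => h.rootPerm w' s ≠ s).card < k := by
      rw [← hk]
      refine Finset.card_lt_card ((Finset.ssubset_iff_of_subset fun s hs => ?_).2 ⟨b, ?_, ?_⟩)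
      · simp only [Finset.mem_filter, Finset.mem_univ, true_and] at hs ⊢
        exact fun e => hs (hfix s e)
      · simp only [Finset.mem_filter, Finset.mem_univ, true_and, hb]
        exact hW.good.rev_ne b
      · simp [hbfix]
    obtain ⟨z, hz, hzd⟩ := ih _ hlt _ hn' (by
      rw [show y * (x * n * x⁻¹) * y⁻¹ * (y * (x * n * x⁻¹) * y⁻¹) =
        y * (x * n * x⁻¹ * (x * n * x⁻¹)) * y⁻¹ by group, hxsq]; group) w' hm' rfl
    refine ⟨z * y * x, mul_mem (mul_mem hz hy) hx, ?_⟩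
    rwa [show z * y * x * n * (z * y * x)⁻¹ = z * (y * (x * n * x⁻¹) * y⁻¹) * z⁻¹ by group]

end CfsgLib.ChevOddInvol
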