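import Cfsg.Agent.ChevOddInvol.Step
import Cfsg.Agent.Weyl.Poincare

/-!
# Involutions of the Weyl group: a certificate for `InvolGood`

An involution is a product of reflections in pairwise orthogonal roots which it negates. The certificate
lists representatives of the sets of orthogonal roots spanning no further root of odd pairing.
-/

set_option autoImplicit false

namespace CfsgLib.ChevOddInvol

open Cfsg.Lie CfsgLib.Chevalley

variable {D : ChevalleyDatum} {C : Weyl.Cert D.rank} {M : CoxeterMatrix (Fin D.rank)}
  {R : Weyl.RootTable}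

/-- `w` is the product of the reflections in `L`, each root negated. -/
inductive Desc (hW : GoodWeyl D) (h : Weyl.RootGood C M R) : List (Root D) → M.Group → Prop
  | nil : Desc hW h [] 1
  | cons {r : Root D} {L : List (Root D)} {w : M.Group} (hr : h.rootPerm w r = r.rev)
      (hL : Desc hW h L (refl hW h r * w)) : Desc hW h (r :: L) w

variable (hW : GoodWeyl D) (h : Weyl.RootGood C M R)

include hW

theorem refl_self (r : Root D) : h.rootPerm (refl hW h r) r = r.rev :=
  (reflData_refl (F := ℚ) hW h r).self

theorem refl_fix {r s : Root D} (hs : D.pairing r s = 0) : h.rootPerm (refl hW h r) s = s :=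
  (reflData_refl (F := ℚ) hW h r).fix s hs

theorem refl_eq {r : Root D} {g : M.Group} {i : Fin D.rank}
    (e : h.rootPerm g (pRoot hW i) = r) : refl hW h r = g * M.simple i * g⁻¹ :=
  h.rootPerm_injective (reflData_perm hW h (reflData_refl (F := ℚ) hW h r) e)

theorem refl_map (g : M.Group) (r : Root D) :
    refl hW h (h.rootPerm g r) = g * refl hW h r * g⁻¹ := by
  obtain ⟨g₀, i, e⟩ := exists_eq_rootPerm_pRoot hW h r
  rw [refl_eq hW h e, refl_eq hW h (g := g * g₀) (i := i)
    (by rw [map_mul, Equiv.Perm.mul_apply, e])]
  group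

theorem refl_rev (r : Root D) : refl hW h r.rev = refl hW h r := by
  obtain ⟨g₀, i, e⟩ := exists_eq_rootPerm_pRoot hW h r
  rw [refl_eq hW h e, refl_eq hW h (g := g₀ * M.simple i) (i := i)
    (by rw [map_mul, Equiv.Perm.mul_apply, ← wPerm_eq_rootPerm hW h, hW.wPerm_pRoot,
      rootPerm_rev hW h, e])]
  group

theorem refl_mul_self (r : Root D) : refl hW h r * refl hW h r = 1 := by
  obtain ⟨g₀, i, e⟩ := exists_eq_rootPerm_pRoot hW h r
  rw [refl_eq hW h e, show g₀ * M.simple i * g₀⁻¹ * (g₀ * M.simple i * g₀⁻¹) =
    g₀ * (M.simple i * M.simple i) * g₀⁻¹ by group,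
    show M.simple i * M.simple i = 1 from M.toCoxeterSystem.simple_mul_simple_self i]
  group

theorem posIdx_negRoot_eq (r : Root D) : h.negRoot r = r.rev :=
  Fin.ext (hW.good.neg_fin r)

/-- A nontrivial involution negates some root. -/
theorem exists_negated {w : M.Group} (hw : w * w = 1) (hne : w ≠ 1) :
    ∃ r : Root D, h.rootPerm w r = r.rev := by
  induction hn : (h.invSet w).card using Nat.strong_induction_on generalizing w with
  | _ n ih =>
    obtain ⟨i, hi⟩ : ∃ i, ¬ Weyl.PosIdx (h.rootPerm w (h.simpleRoot i)) :=
      not_forall.mp fun hall => hne (h.eq_one_of_invSet_empty (h.invSet_eq_empty hall))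
    set a := h.simpleRoot i with ha
    by_cases hneg : h.rootPerm w a = a.rev
    · exact ⟨a, hneg⟩
    set s := M.simple i with hs
    have hss : s * s = 1 := M.toCoxeterSystem.simple_mul_simple_self i
    have hlen : M.toCoxeterSystem.length (s * w) = M.toCoxeterSystem.length (w * s) := by
      rw [← CoxeterSystem.length_inv, mul_inv_rev, inv_eq_of_mul_eq_one_right hw,
        inv_eq_of_mul_eq_one_right hss]
    have h1 := (h.card_inv_mul_simple w i).2 hi
    rw [← h.length_eq_card_invSet] at h1
    rw [← hlen, h.length_eq_card_invSet] at h1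
    have h2pos : ¬ Weyl.PosIdx (h.rootPerm (s * w) a) := by
      intro hp
      rw [map_mul, Equiv.Perm.mul_apply] at hp
      set x := h.rootPerm w a with hx
      have hnp := (h.pos_negRoot x).2 hi
      have hxa : h.negRoot x ≠ a := by
        intro e
        apply hneg
        rw [← e, ← posIdx_negRoot_eq hW h, h.negRoot_negRoot]
      have := h.pos_simple_apply hxa hnp
      rw [h.rootPerm_neg] at this
      exact (h.pos_negRoot _).1 this hp
    have h2 := (h.card_inv_mul_simple (s * w) i).2 h2pos
    have hw' : s * w * s * (s * w * s) = 1 := by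
      rw [show s * w * s * (s * w * s) = s * w * (s * s) * w * s by group, hss, mul_one,
        show s * w * w * s = s * (w * w) * s by group, hw, mul_one, hss]
    have hne' : s * w * s ≠ 1 := by
      intro e
      apply hne
      calc w = s * s * w * (s * s) := by rw [hss, one_mul, mul_one]
        _ = s * (s * w * s) * s := by group
        _ = 1 := by rw [e, mul_one, hss]
    rw [← hs] at h2
    obtain ⟨r, hr⟩ := ih _ (by omega) hw' hne' rfl
    refine ⟨h.rootPerm s r, ?_⟩
    rw [← rootPerm_rev hW h, ← hr, ← Equiv.Perm.mul_apply, ← map_mul,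
      ← Equiv.Perm.mul_apply, ← map_mul]
    congr 2
    rw [show s * (s * w * s) = s * s * w * s by group, hss, one_mul]

theorem pairing_zero_of_fix {w : M.Group} {r s : Root D} (hr : h.rootPerm w r = r.rev)
    (hs : h.rootPerm w s = s) : D.pairing r s = 0 ∧ D.pairing s r = 0 := by
  constructor
  · have := pairing_rootPerm hW h w r s
    rw [hr, hs, pairing_rev_left hW.good] at this
    omega
  · have := pairing_rootPerm hW h w s r
    rw [hr, hs, pairing_rev_right hW.good] at this
    omega

theorem exists_desc (w : M.Group) (hw : w * w = 1) : ∃ L, Desc hW h L w := by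
  classical
  induction hn : (Finset.univ.filter fun s => h.rootPerm w s ≠ s).card
    using Nat.strong_induction_on generalizing w with
  | _ n ih =>
    by_cases hne : w = 1
    · subst hne; exact ⟨[], .nil⟩
    obtain ⟨r, hr⟩ := exists_negated hW h hw hne
    have hcomm : w * refl hW h r = refl hW h r * w := by
      have := refl_map hW h w r
      rw [hr, refl_rev] at this
      exact (eq_mul_inv_iff_mul_eq.1 this).symm
    have hw' : refl hW h r * w * (refl hW h r * w) = 1 := by
      rw [show refl hW h r * w * (refl hW h r * w) = refl hW h r * (w * refl hW h r) * w by group,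
        hcomm, show refl hW h r * (refl hW h r * w) * w = refl hW h r * refl hW h r * (w * w) by group,
        refl_mul_self, hw, one_mul]
    have hlt : (Finset.univ.filter fun s => h.rootPerm (refl hW h r * w) s ≠ s).card < n := by
      rw [← hn]
      refine Finset.card_lt_card ((Finset.ssubset_iff_of_subset fun s hs => ?_).2 ⟨r, ?_, ?_⟩)
      · simp only [Finset.mem_filter, Finset.mem_univ, true_and] at hs ⊢
        intro e
        apply hs
        rw [map_mul, Equiv.Perm.mul_apply, e, refl_fix hW h (pairing_zero_of_fix hW h hr e).1]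
      · simp only [Finset.mem_filter, Finset.mem_univ, true_and, hr]
        exact hW.good.rev_ne r
      · simp [hr, rootPerm_rev hW h, refl_self hW h r]
    obtain ⟨L, hL⟩ := ih _ hlt _ hw' rfl
    exact ⟨r :: L, .cons hr hL⟩

variable {hW h} in
theorem Desc.facts {L : List (Root D)} {w : M.Group} (hd : Desc hW h L w) :
    (∀ s ∈ L, h.rootPerm w s = s.rev) ∧
      L.Pairwise (fun r s : Root D => D.pairing r s = 0 ∧ D.pairing s r = 0) := by
  induction hd with
  | nil => simp
  | @cons r L w hr hL ih =>
    have hfix : h.rootPerm (refl hW h r * w) r = r := by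
      rw [map_mul, Equiv.Perm.mul_apply, hr, rootPerm_rev hW h, refl_self, Fin.rev_rev]
    have horth : ∀ s ∈ L, D.pairing r s = 0 ∧ D.pairing s r = 0 := fun s hs =>
      (pairing_zero_of_fix hW h (ih.1 s hs) hfix).symm
    refine ⟨fun s hs => ?_, List.pairwise_cons.2 ⟨horth, ih.2⟩⟩
    rcases List.mem_cons.1 hs with rfl | hs
    · exact hr
    · have e := ih.1 s hs
      rw [map_mul, Equiv.Perm.mul_apply] at e
      have e2 := congrArg (h.rootPerm (refl hW h r)) e
      rw [← Equiv.Perm.mul_apply (h.rootPerm (refl hW h r)), ← map_mul, refl_mul_self, map_one,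
        Equiv.Perm.one_apply, rootPerm_rev hW h, refl_fix hW h (horth s hs).1] at e2
      exact e2

variable {hW h} in
/-- A root orthogonal to all of `L` but `r` is moved as by the reflection of `r`. -/
theorem Desc.apply_eq {L : List (Root D)} {w : M.Group} (hd : Desc hW h L w) :
    (∀ v : Root D, (∀ s ∈ L, D.pairing s v = 0) → h.rootPerm w v = v) ∧
      ∀ r ∈ L, ∀ v : Root D, (∀ s ∈ L, s ≠ r → D.pairing s v = 0) → D.pairing r v ≠ 0 →
        h.rootPerm w v = h.rootPerm (refl hW h r) v := by
  induction hd with
  | nil => simp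
  | @cons r L w hr hL ih =>
    have hor := (List.pairwise_cons.1 (Desc.cons hr hL).facts.2).1
    have hback : ∀ x, h.rootPerm w x =
        h.rootPerm (refl hW h r) (h.rootPerm (refl hW h r * w) x) := by
      intro x
      rw [← Equiv.Perm.mul_apply, ← map_mul, ← mul_assoc, refl_mul_self, one_mul]
    refine ⟨fun v hv => ?_, fun a ha v hv hne => ?_⟩
    · rw [hback, ih.1 v fun s hs => hv s (List.mem_cons_of_mem _ hs),
        refl_fix hW h (hv r List.mem_cons_self)]
    · by_cases har : a = r
      · subst har
        rw [hback, ih.1 v fun s hs => hv s (List.mem_cons_of_mem _ hs) fun e => ?_]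
        subst e
        have := (hor s hs).1
        rw [pairing_self hW] at this
        omega
      · have haL : a ∈ L := by simpa [har] using ha
        rw [hback, ih.2 a haL v (fun s hs hsa => hv s (List.mem_cons_of_mem _ hs) hsa) hne]
        refine refl_fix hW h ?_
        have := pairing_rootPerm hW h (refl hW h a) r v
        rw [refl_fix hW h (hor a haL).2] at this
        rw [this]
        exact hv r List.mem_cons_self (Ne.symm har)

/-! ### The certificate -/

/-- Equal up to sign. -/
def eqv (D : ChevalleyDatum) (a b : ℕ) : Bool := a == b || a == D.neg b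

/-- An entry of the certificate for an extension of a representative by a root. -/
inductive Entry where
  /-- `k` times the coroot of `x` is a combination of the set, with odd pairing to member `j` -/
  | bad (x j : ℕ) (k : ℤ) (a : List ℤ)
  /-- the word carries the set to a representative -/
  | next (j : ℕ) (word : List ℕ)

/-- The combination of coroots. -/
def comb (D : ChevalleyDatum) (T : List ℕ) (a : List ℤ) (i : ℕ) : ℤ :=
  ((T.zip a).map fun p => p.2 * (D.coroot.getD p.1 #[]).getD i 0).sum

/-- The check of an entry. -/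
def Entry.ok (D : ChevalleyDatum) (R : Weyl.RootTable) (reps : List (List ℕ)) (T : List ℕ) :
    Entry → Bool
  | .bad x j k a => decide (x < D.nroots) && decide (j < T.length) && decide (k ≠ 0) &&
      (List.range D.rank).all (fun i => decide (k * (D.coroot.getD x #[]).getD i 0 = comb D T a i)) &&
      (decide (D.pairing (T.getD j 0) x % 2 = 1) || decide (D.pairing x (T.getD j 0) % 2 = 1))
  | .next j word => decide (j < reps.length) && word.all (fun i => decide (i < D.rank)) &&
      T.all (fun y => (reps.getD j []).any fun z => eqv D (Weyl.rwalk R word y) z) &&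
      (reps.getD j []).all (fun z => T.any fun y => eqv D (Weyl.rwalk R word y) z)

/-- The data of a representative: a root of pairing `1` and the entries. -/
structure RepData where
  set : List ℕ
  r : ℕ
  v : ℕ
  ents : List (ℕ × Entry)

/-- Whether a root is orthogonal to all members of a list. -/
def orthTo (D : ChevalleyDatum) (S : List ℕ) (b : ℕ) : Bool :=
  S.all fun s => decide (D.pairing s b = 0) && decide (D.pairing b s = 0)

/-- The check of one representative. -/
def RepData.ok (D : ChevalleyDatum) (R : Weyl.RootTable) (reps : List (List ℕ)) (d : RepData) :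
    Bool :=
  d.set.all (fun s => decide (s < D.nroots)) &&
  (d.set.isEmpty || (d.set.contains d.r && decide (d.v < D.nroots) &&
    decide (D.pairing d.r d.v = 1) && d.set.all fun s => s == d.r || decide (D.pairing s d.v = 0))) &&
  (List.range D.nroots).all fun b => !orthTo D d.set b ||
    d.ents.any fun e => e.1 == b && e.2.ok D R reps (b :: d.set)

/-- The check of a certificate. -/
def certOk (D : ChevalleyDatum) (R : Weyl.RootTable) (ds : List RepData) : Bool :=
  ((ds.map RepData.set).head? == some []) &&
  ds.all (RepData.ok D R (ds.map RepData.set)) &&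
  (List.finRange D.rank).all fun i => (List.range D.nroots).all fun r =>
    decide (r = D.simple i) || (List.finRange D.rank).any fun k : Fin D.rank =>
      decide ((D.coroot.getD r #[]).getD k 0 ≠ if i = k then 1 else 0)

include h in
theorem co_injective (ds : List RepData) (hok : certOk D R ds = true) {a b : Root D}
    (e : ∀ k, ChevTorus.co D a k = ChevTorus.co D b k) : a = b := by
  obtain ⟨g, i, hg⟩ := exists_eq_rootPerm_pRoot hW h a
  have key : h.rootPerm g⁻¹ b = pRoot hW i := by
    simp only [certOk, Bool.and_eq_true, Bool.or_eq_true, List.all_eq_true, List.any_eq_true,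
      List.mem_range, List.mem_finRange, forall_const, decide_eq_true_eq, true_and] at hok
    rcases hok.2 i (h.rootPerm g⁻¹ b : ℕ) (Fin.is_lt _) with h1 | ⟨k, hk⟩
    · exact Fin.ext h1
    · exfalso
      apply hk
      show ChevTorus.co D (h.rootPerm g⁻¹ b) k = _
      rw [ChevTorus.co_linear hW (rootPerm_mem_reflGroup hW h g⁻¹),
        ← ChevTorus.co_pRoot hW i k]
      conv_lhs => arg 2; ext j; rw [← e j]
      rw [← ChevTorus.co_linear hW (rootPerm_mem_reflGroup hW h g⁻¹), ← hg,
        ← Equiv.Perm.mul_apply, ← map_mul, inv_mul_cancel, map_one, Equiv.Perm.one_apply]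
  rw [← hg, ← key, ← Equiv.Perm.mul_apply, ← map_mul, mul_inv_cancel, map_one,
    Equiv.Perm.one_apply]

theorem eqv_iff {a b : Root D} : eqv D a b = true ↔ a = b ∨ a = b.rev := by
  simp only [eqv, Bool.or_eq_true, beq_iff_eq, hW.good.neg_fin, Fin.ext_iff]

/-- A list has a root negated with it and of odd pairing to a member. -/
def Bad (L : List (Root D)) : Prop :=
  ∃ y ∈ L, ∃ x : Root D, (Odd (D.pairing y x) ∨ Odd (D.pairing x y)) ∧
    ∀ w : M.Group, (∀ z ∈ L, h.rootPerm w z = z.rev) → h.rootPerm w x = x.rev

/-- A list is carried to a representative, up to signs. -/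
def ToRep (reps : List (List ℕ)) (L : List (Root D)) : Prop :=
  ∃ g : M.Group, ∃ S ∈ reps, (∀ y ∈ L, ∃ z ∈ S, eqv D (h.rootPerm g y) z = true) ∧
    ∀ z ∈ S, ∃ y ∈ L, eqv D (h.rootPerm g y) z = true

theorem negated_of_map {w g : M.Group} {z : Root D}
    (hz : h.rootPerm w z = z.rev) :
    h.rootPerm (g * w * g⁻¹) (h.rootPerm g z) = (h.rootPerm g z).rev := by
  rw [← Equiv.Perm.mul_apply, ← map_mul, inv_mul_cancel_right, map_mul, Equiv.Perm.mul_apply, hz,
    rootPerm_rev hW h]

theorem negated_eqv {w : M.Group} {a b : Root D} (e : a = b ∨ a = b.rev)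
    (ha : h.rootPerm w a = a.rev) : h.rootPerm w b = b.rev := by
  rcases e with rfl | rfl
  · exact ha
  · rw [rootPerm_rev hW h, Fin.rev_rev] at ha
    conv_rhs => rw [← ha, Fin.rev_rev]

theorem bad_or_toRep (ds : List RepData) (hok : certOk D R ds = true) :
    ∀ L : List (Root D), L.Pairwise (fun r s : Root D => D.pairing r s = 0 ∧ D.pairing s r = 0) →
      Bad h L ∨ ToRep h (ds.map RepData.set) L := by
  have hok' := hok
  simp only [certOk, Bool.and_eq_true, List.all_eq_true, beq_iff_eq] at hok'
  obtain ⟨⟨hhead, hreps⟩, -⟩ := hok'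
  intro L
  induction L with
  | nil =>
    exact fun _ => Or.inr ⟨1, [], List.mem_of_mem_head? hhead, by simp, by simp⟩
  | cons r L ih =>
    intro hp
    obtain ⟨hr, hp'⟩ := List.pairwise_cons.1 hp
    rcases ih hp' with ⟨y, hy, x, hx, hwx⟩ | ⟨g, S, hS, h1, h2⟩
    · exact Or.inl ⟨y, List.mem_cons_of_mem _ hy, x, hx, fun w hw =>
        hwx w fun z hz => hw z (List.mem_cons_of_mem _ hz)⟩
    obtain ⟨d, hd, rfl⟩ := List.mem_map.1 hS
    have hd' := hreps d hd
    simp only [RepData.ok, Bool.and_eq_true, List.all_eq_true, decide_eq_true_eq,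
      List.mem_range] at hd'
    obtain ⟨⟨hlt, -⟩, hents⟩ := hd'
    set b := h.rootPerm g r with hb
    have horth : orthTo D d.set b = true := by
      simp only [orthTo, List.all_eq_true, Bool.and_eq_true, decide_eq_true_eq]
      intro z hz
      obtain ⟨y, hy, hyz⟩ := h2 z hz
      rcases (eqv_iff hW (b := ⟨z, hlt z hz⟩)).1 hyz with e | e
      · have e' : (z : ℕ) = (h.rootPerm g y : Root D) := congrArg Fin.val e.symm
        rw [e', pairing_rootPerm hW h, pairing_rootPerm hW h]
        exact ⟨(hr y hy).2, (hr y hy).1⟩
      · have e' : (z : ℕ) = ((h.rootPerm g y).rev : Root D) := by rw [e, Fin.rev_rev]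
        rw [e', pairing_rev_left hW.good, pairing_rev_right hW.good, pairing_rootPerm hW h,
          pairing_rootPerm hW h, (hr y hy).1, (hr y hy).2]
        simp
    have he := hents b (Fin.is_lt b)
    rw [horth] at he
    simp only [Bool.not_true, Bool.false_or, List.any_eq_true, Bool.and_eq_true, beq_iff_eq] at he
    obtain ⟨⟨b', e⟩, -, rfl, heok⟩ := he
    have hTlt : ∀ t ∈ (b : ℕ) :: d.set, t < D.nroots := by
      intro t ht
      rcases List.mem_cons.1 ht with rfl | ht
      · exact b.isLt
      · exact hlt t ht
    have hTmem : ∀ t ∈ (b : ℕ) :: d.set, ∃ y ∈ r :: L, eqv D (h.rootPerm g y) t = true := by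
      intro t ht
      rcases List.mem_cons.1 ht with rfl | ht
      · exact ⟨r, List.mem_cons_self, by simp [eqv, hb]⟩
      · obtain ⟨y, hy, hyz⟩ := h2 t ht
        exact ⟨y, List.mem_cons_of_mem _ hy, hyz⟩
    cases e with
    | bad x j k a =>
      left
      simp only [Entry.ok, Bool.and_eq_true, Bool.or_eq_true, decide_eq_true_eq, List.all_eq_true,
        List.mem_range] at heok
      obtain ⟨⟨⟨⟨hx, hj⟩, hk⟩, hco⟩, hodd⟩ := heok
      set T := (b : ℕ) :: d.set with hT
      have hjmem : T.getD j 0 ∈ T := by
        rw [List.getD_eq_getElem _ _ hj]; exact List.getElem_mem hj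
      obtain ⟨y, hy, hyt⟩ := hTmem _ hjmem
      let t : Root D := ⟨T.getD j 0, hTlt _ hjmem⟩
      let x' : Root D := ⟨x, hx⟩
      refine ⟨y, hy, h.rootPerm g⁻¹ x', ?_, fun w hw => ?_⟩
      · have hodd' : Odd (D.pairing t x') ∨ Odd (D.pairing x' t) :=
          hodd.imp Int.odd_iff.2 Int.odd_iff.2
        have hback : x' = h.rootPerm g (h.rootPerm g⁻¹ x') := by
          rw [← Equiv.Perm.mul_apply, ← map_mul, mul_inv_cancel, map_one, Equiv.Perm.one_apply]
        rcases (eqv_iff hW (b := t)).1 hyt with e | e
        · rwa [← e, hback, pairing_rootPerm hW h, pairing_rootPerm hW h] at hodd'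
        · have e' : t = (h.rootPerm g y).rev := by rw [e, Fin.rev_rev]
          rw [e', hback, pairing_rev_left hW.good, pairing_rev_right hW.good,
            pairing_rootPerm hW h, pairing_rootPerm hW h, odd_neg, odd_neg] at hodd'
          exact hodd'
      · set w' := g * w * g⁻¹ with hw'
        have hT' : ∀ p ∈ T.zip a, ∀ hp : p.1 < D.nroots,
            h.rootPerm w' ⟨p.1, hp⟩ = (⟨p.1, hp⟩ : Root D).rev := by
          intro p hp hlt'
          obtain ⟨y', hy', hyp⟩ := hTmem p.1 (List.of_mem_zip hp).1
          exact negated_eqv hW h ((eqv_iff hW (b := ⟨p.1, hlt'⟩)).1 hyp)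
            (negated_of_map hW h (hw y' hy'))
        have hx' : h.rootPerm w' x' = x'.rev := by
          refine co_injective hW h ds hok fun i => mul_left_cancel₀ hk ?_
          have hlin := ChevTorus.co_linear hW (rootPerm_mem_reflGroup hW h w')
          have hrev : ∀ (u : Root D) i, ChevTorus.co D u.rev i = -ChevTorus.co D u i := fun u i =>
            hW.good.coroot_rev u i
          have hcomb : ∀ (l : List (ℕ × ℤ)), (∀ p ∈ l, p ∈ T.zip a) →
              ∑ j', (l.map fun p => p.2 * (D.coroot.getD p.1 #[]).getD (j' : Fin D.rank) 0).sum *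
                ChevTorus.co D (h.rootPerm w' (pRoot hW j')) i =
              -(l.map fun p => p.2 * (D.coroot.getD p.1 #[]).getD i 0).sum := by
            intro l
            induction l with
            | nil => simp
            | cons p l ihl =>
              intro hl
              have hp := hl p List.mem_cons_self
              have hlt' := hTlt p.1 (List.of_mem_zip hp).1
              simp only [List.map_cons, List.sum_cons, add_mul, Finset.sum_add_distrib,
                ihl fun q hq => hl q (List.mem_cons_of_mem _ hq), neg_add]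
              congr 1
              simp only [mul_assoc, ← Finset.mul_sum]
              rw [show ∑ j', (D.coroot.getD p.1 #[]).getD (j' : Fin D.rank) 0 *
                  ChevTorus.co D (h.rootPerm w' (pRoot hW j')) i =
                  ChevTorus.co D (h.rootPerm w' ⟨p.1, hlt'⟩) i from (hlin ⟨p.1, hlt'⟩ i).symm,
                hT' p hp hlt', hrev, mul_neg]
              rfl
          rw [hlin, Finset.mul_sum, hrev, mul_neg,
            show k * ChevTorus.co D x' i = comb D T a i from hco i i.isLt, comb,
            ← hcomb (T.zip a) fun p hp => hp]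
          refine Finset.sum_congr rfl fun j' _ => ?_
          rw [← mul_assoc]
          exact congrArg (· * _) (hco j' j'.isLt)
        have e : g⁻¹ * w' * g⁻¹⁻¹ = w := by rw [hw']; group
        have := negated_of_map hW h (g := g⁻¹) hx'
        rwa [e] at this
    | next j word =>
      right
      simp only [Entry.ok, Bool.and_eq_true, decide_eq_true_eq, List.all_eq_true,
        List.any_eq_true] at heok
      obtain ⟨⟨⟨hj, hword⟩, hfw⟩, hbw⟩ := heok
      set reps := ds.map RepData.set
      have hjmem : reps.getD j [] ∈ reps := by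
        rw [List.getD_eq_getElem _ _ hj]; exact List.getElem_mem hj
      have hjlt : ∀ z ∈ reps.getD j [], z < D.nroots := by
        intro z hz
        obtain ⟨d', hd1, hd2⟩ := List.mem_map.1 hjmem
        have := hreps d' hd1
        simp only [RepData.ok, Bool.and_eq_true, List.all_eq_true, decide_eq_true_eq] at this
        exact this.1.1 z (hd2 ▸ hz)
      set u := Weyl.wordProd (Weyl.simpleNat M) word
      have htrans : ∀ (y : Root D) (t z : ℕ), t < D.nroots → z < D.nroots →
          eqv D (h.rootPerm g y) t = true → eqv D (Weyl.rwalk R word t) z = true →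
          eqv D (h.rootPerm (u * g) y) z = true := by
        intro y t z ht hz h3 h4
        rw [← h.rootPerm_wordProd word hword ⟨t, ht⟩] at h4
        rw [eqv_iff hW (b := ⟨z, hz⟩)] at h4
        rw [eqv_iff hW (b := ⟨t, ht⟩)] at h3
        rw [eqv_iff hW (b := ⟨z, hz⟩), map_mul, Equiv.Perm.mul_apply]
        rcases h3 with e | e <;> rw [e]
        · exact h4
        · rw [rootPerm_rev hW h]
          rcases h4 with e' | e' <;> rw [e'] <;> simp
      refine ⟨u * g, _, hjmem, fun y hy => ?_, fun z hz => ?_⟩
      · obtain ⟨t, ht, hyt⟩ : ∃ t ∈ (b : ℕ) :: d.set, eqv D (h.rootPerm g y) t = true := by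
          rcases List.mem_cons.1 hy with rfl | hy
          · exact ⟨b, List.mem_cons_self, by simp [eqv, hb]⟩
          · obtain ⟨t, ht, e⟩ := h1 y hy
            exact ⟨t, List.mem_cons_of_mem _ ht, e⟩
        obtain ⟨z, hz, htz⟩ := hfw t ht
        exact ⟨z, hz, htrans y t z (hTlt t ht) (hjlt z hz) hyt htz⟩
      · obtain ⟨t, ht, htz⟩ := hbw z hz
        obtain ⟨y, hy, hyt⟩ := hTmem t ht
        exact ⟨y, hy, htrans y t z (hTlt t ht) (hjlt z hz) hyt htz⟩

/-- A checked certificate gives `InvolGood`. -/
theorem involGood_of_cert (ds : List RepData) (hok : certOk D R ds = true) : InvolGood hW h := by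
  intro w hw hne
  obtain ⟨L, hL⟩ := exists_desc hW h w hw
  obtain ⟨hneg, horth⟩ := hL.facts
  rcases bad_or_toRep hW h ds hok L horth with ⟨y, hy, x, hx, hwx⟩ | ⟨g, S, hS, h1, h2⟩
  · rcases hx with hx | hx
    · exact ⟨y, hneg y hy, Or.inl ⟨x, hwx w hneg, hx⟩⟩
    · exact ⟨x, hwx w hneg, Or.inl ⟨y, hneg y hy, hx⟩⟩
  simp only [certOk, Bool.and_eq_true, List.all_eq_true] at hok
  obtain ⟨d, hd, rfl⟩ := List.mem_map.1 hS
  have hd' := hok.1.2 d hd
  simp only [RepData.ok, Bool.and_eq_true, Bool.or_eq_true, List.isEmpty_iff, List.all_eq_true,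
    decide_eq_true_eq, List.contains_iff_mem, beq_iff_eq] at hd'
  obtain ⟨⟨hlt, hgood⟩, -⟩ := hd'
  have hLne : L ≠ [] := by
    intro e; subst e
    cases hL
    exact hne rfl
  rcases hgood with he | ⟨⟨⟨hr, hv⟩, hp1⟩, hp0⟩
  · obtain ⟨y, hy⟩ := List.exists_mem_of_ne_nil L hLne
    obtain ⟨z, hz, -⟩ := h1 y hy
    rw [he] at hz
    exact absurd hz List.not_mem_nil
  · obtain ⟨y, hy, hyr⟩ := h2 d.r hr
    let r' : Root D := ⟨d.r, hlt _ hr⟩
    let v' : Root D := ⟨d.v, hv⟩
    have hinv : ∀ x, h.rootPerm g (h.rootPerm g⁻¹ x) = x := fun x => by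
      rw [← Equiv.Perm.mul_apply, ← map_mul, mul_inv_cancel, map_one, Equiv.Perm.one_apply]
    have hyr' := (eqv_iff hW (b := r')).1 hyr
    set r0 := h.rootPerm g⁻¹ r' with hr0
    set v := h.rootPerm g⁻¹ v' with hv'
    have hry : y = r0 ∨ y = r0.rev := by
      rcases hyr' with e | e
      · left; exact (h.rootPerm g).injective (by rw [e, hr0, hinv])
      · right; exact (h.rootPerm g).injective (by rw [e, rootPerm_rev hW h, hr0, hinv])
    have hp : D.pairing r0 v = 1 := by
      rw [hr0, hv', pairing_rootPerm hW h]; exact hp1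
    have hr0neg : h.rootPerm w r0 = r0.rev := negated_eqv hW h hry (hneg y hy)
    refine ⟨r0, hr0neg, ?_⟩
    by_cases hC : ∃ a : Root D, h.rootPerm w a = a.rev ∧ Odd (D.pairing r0 a)
    · exact Or.inl hC
    refine Or.inr ⟨v, hp, ?_⟩
    have hne0 : D.pairing y v ≠ 0 := by
      rcases hry with e | e <;> rw [e]
      · omega
      · rw [pairing_rev_left hW.good]; omega
    rw [(hL.apply_eq).2 y hy v (fun s hs hsy => ?_) hne0]
    · rcases hry with e | e <;> rw [e]
      rw [refl_rev]
    · obtain ⟨z, hz, hsz⟩ := h1 s hs
      have hzv : z = d.r ∨ D.pairing z d.v = 0 := hp0 z hz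
      rcases hzv with rfl | h0
      · exfalso
        have hpw : D.pairing y s = 0 := by
          have : Std.Symm (fun r s : Root D => D.pairing r s = 0 ∧ D.pairing s r = 0) :=
            ⟨fun _ _ h => h.symm⟩
          exact (horth.forall hy hs (Ne.symm hsy)).1
        rw [← pairing_rootPerm hW h g] at hpw
        rcases hyr' with e | e <;> rcases (eqv_iff hW (b := r')).1 hsz with e' | e' <;>
          rw [e, e'] at hpw <;>
          simp only [pairing_rev_left hW.good, pairing_rev_right hW.good, pairing_self hW] at hpw <;>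
          omega
      · rw [← pairing_rootPerm hW h g, hv', hinv]
        rcases (eqv_iff hW (b := ⟨z, hlt z hz⟩)).1 hsz with e | e <;> rw [e]
        · exact h0
        · rw [pairing_rev_left hW.good]
          show -D.pairing z d.v = 0
          omega

end CfsgLib.ChevOddInvol
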