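import Cfsg.Agent.ChevOddInvol.Monomial
import Cfsg.Agent.ChevOddInvol.Weyl
import Cfsg.Agent.ChevTorus.Order

/-!
# Involutions in the torus
-/

set_option autoImplicit false

namespace CfsgLib.ChevOddInvol

open Cfsg.Lie CfsgLib.Chevalley

variable {D : ChevalleyDatum} {C : Weyl.Cert D.rank} {M : CoxeterMatrix (Fin D.rank)}
  {R : Weyl.RootTable} {F : Type*} [Field F]

/-- The parity of the number of common bits below `n`. -/
def parity : ℕ → ℕ → ℕ → Bool
  | 0, _, _ => false
  | n + 1, a, b => (a.testBit n && b.testBit n) != parity n a b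

/-- The sign of the root `r` under the torus involution with simple signs `b`. -/
def sgn (D : ChevalleyDatum) (masks : List ℕ) (b r : ℕ) : Bool :=
  parity D.rank (masks.getD r 0) b

/-- The check of the table of root parities. -/
def maskOk (D : ChevalleyDatum) (masks : List ℕ) : Bool :=
  (List.range D.rank).all fun i => decide (masks.getD (D.simple i) 0 = 2 ^ i) &&
    (List.range D.nroots).all fun r =>
      masks.getD (D.reflectRoot i r) 0 ==
        masks.getD r 0 ^^^ if D.cartan i r % 2 = 1 then 2 ^ i else 0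

/-- A sign. -/
def unitOf (F : Type*) [Field F] (s : Bool) : Fˣ := if s then -1 else 1

theorem unitOf_mul (s t : Bool) : unitOf F s * unitOf F t = unitOf F (s != t) := by
  cases s <;> cases t <;> simp [unitOf]

theorem unitOf_zpow (s : Bool) (n : ℤ) :
    unitOf F s ^ n = unitOf F (decide (n % 2 = 1) && s) := by
  cases s
  · simp [unitOf]
  · rcases Int.even_or_odd n with hn | hn
    · simp [unitOf, hn.neg_one_zpow, Int.even_iff.1 hn]
    · simp [unitOf, hn.neg_one_zpow, Int.odd_iff.1 hn]

theorem unitOf_injective (h2 : (2 : F) ≠ 0) : Function.Injective (unitOf F) := by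
  have hne : (-1 : Fˣ) ≠ 1 := fun e => h2 (by
    have := congrArg Units.val e
    simp only [Units.val_neg, Units.val_one] at this
    linear_combination -this)
  intro s t e
  cases s <;> cases t <;> simp_all [unitOf, eq_comm]

/-- The torus element with simple signs `b`. -/
def tInv (D : ChevalleyDatum) (F : Type*) [Field F] (masks : List ℕ) (b : ℕ) : GL D.Idx F :=
  tor fun r => unitOf F (sgn D masks b r)

theorem tInv_conj_X (hW : GoodWeyl D) {masks : List ℕ} {b : ℕ}
    (hb : tInv D F masks b ∈ D.diagonalSubgroup F) (r : Root D) (u : F) :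
    tInv D F masks b * X hW.good r u * (tInv D F masks b)⁻¹ =
      X hW.good r ((unitOf F (sgn D masks b r) : F) * u) := by
  rw [diagonalSubgroup_eq_range hW] at hb
  obtain ⟨c, hc⟩ := hb
  change torC D c = _ at hc
  rw [← hc, ChevTorus.torC_conj_X]
  congr 2
  have := congrFun (tor_injective (hc.trans rfl)) r
  rw [← this]
  simp [ChevTorus.torVal]

theorem parity_two_pow : ∀ (n i b : ℕ), i < n → parity n (2 ^ i) b = b.testBit i := by
  intro n
  induction n with
  | zero => intros; omega
  | succ n ih =>
    intro i b hi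
    rw [parity, Nat.testBit_two_pow]
    by_cases e : i = n
    · subst e
      have hz : ∀ m, m ≤ i → parity m (2 ^ i) b = false := by
        intro m
        induction m with
        | zero => intro _; rfl
        | succ m ihm =>
          intro hm
          rw [parity, Nat.testBit_two_pow, ihm (by omega)]
          simp [show i ≠ m by omega]
      simp [hz i le_rfl]
    · simp [e, ih i b (by omega)]

theorem parity_xor : ∀ n a c b : ℕ, parity n (a ^^^ c) b = (parity n a b != parity n c b) := by
  intro n
  induction n with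
  | zero => intros; rfl
  | succ n ih =>
    intro a c b
    rw [parity, parity, parity, ih, Nat.testBit_xor]
    cases a.testBit n <;> cases c.testBit n <;> cases b.testBit n <;>
      cases parity n a b <;> cases parity n c b <;> rfl

theorem sgn_simple (hW : GoodWeyl D) {masks : List ℕ} (hok : maskOk D masks = true)
    (i : Fin D.rank) (b : ℕ) : sgn D masks b (pRoot hW i : Root D) = b.testBit i := by
  simp only [maskOk, Bool.and_eq_true, List.all_eq_true, List.mem_range, decide_eq_true_eq] at hok
  rw [sgn, show ((pRoot hW i : Root D) : ℕ) = D.simple i from rfl, (hok i i.isLt).1,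
    parity_two_pow _ _ _ i.isLt]

theorem sgn_wPerm (hW : GoodWeyl D) {masks : List ℕ} (hok : maskOk D masks = true)
    (i : Fin D.rank) {b : ℕ} (_hb : b < 2 ^ D.rank) (r : Root D) :
    sgn D masks b (wPerm hW i r : Root D) =
      (sgn D masks b r != (decide (D.cartan i r % 2 = 1) && b.testBit i)) := by
  simp only [maskOk, Bool.and_eq_true, List.all_eq_true, List.mem_range, beq_iff_eq] at hok
  rw [hW.wPerm_val]
  rw [sgn, (hok i i.isLt).2 r r.isLt, parity_xor, sgn]
  congr 1
  split <;> rename_i hc
  · rw [parity_two_pow _ _ _ i.isLt]; simp [hc]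
  · rw [decide_eq_false hc, Bool.false_and]
    clear * -
    induction D.rank with
    | zero => rfl
    | succ n ih => rw [parity, ih, Nat.zero_testBit]; rfl

theorem exists_bits : ∀ (n : ℕ) (f : ℕ → Bool), ∃ b < 2 ^ n, ∀ i < n, b.testBit i = f i := by
  intro n
  induction n with
  | zero => intro f; exact ⟨0, by simp, fun i hi => absurd hi (Nat.not_lt_zero i)⟩
  | succ n ih =>
    intro f
    obtain ⟨b, hb, hbit⟩ := ih f
    have hp : 2 ^ (n + 1) = 2 ^ n + 2 ^ n := by rw [pow_succ]; omega
    cases hfn : f n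
    · refine ⟨b, by omega, fun i hi => ?_⟩
      rcases Nat.lt_succ_iff_lt_or_eq.1 hi with h1 | rfl
      · exact hbit i h1
      · rw [hfn, Nat.testBit_lt_two_pow hb]
    · refine ⟨2 ^ n + b, by omega, fun i hi => ?_⟩
      rcases Nat.lt_succ_iff_lt_or_eq.1 hi with h1 | rfl
      · rw [Nat.testBit_two_pow_add_gt h1, hbit i h1]
      · rw [hfn, Nat.testBit_two_pow_add_eq, Nat.testBit_lt_two_pow hb]; rfl

/-- The torus elements squaring to `1` are the `tInv`. -/
theorem exists_eq_tInv (hW : GoodWeyl D) {masks : List ℕ} (hok : maskOk D masks = true)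
    {t : GL D.Idx F} (ht : t ∈ D.diagonalSubgroup F) (ht2 : t * t = 1) :
    ∃ b < 2 ^ D.rank, t = tInv D F masks b := by
  classical
  rw [diagonalSubgroup_eq_range hW] at ht
  obtain ⟨c, rfl⟩ := ht
  change torC D c * torC D c = 1 at ht2
  set χ : Root D → Fˣ := fun r => ∏ k : Fin D.rank, c k ^ D.cartan k r with hχ
  change tor χ * tor χ = (1 : GL D.Idx F) at ht2
  rw [tor_mul, ← tor_one] at ht2
  have hsq : ∀ r, χ r = unitOf F (decide (χ r = -1)) := by
    intro r
    have e := congrArg Units.val (congrFun (tor_injective ht2) r)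
    rw [Units.val_mul, Units.val_one] at e
    rcases mul_self_eq_one_iff.1 e with h1 | h1
    · rw [show χ r = 1 from Units.ext h1]
      by_cases h2 : (1 : Fˣ) = -1
      · simp [unitOf, ← h2]
      · simp [unitOf, h2]
    · rw [show χ r = -1 from Units.ext (by rw [h1, Units.val_neg, Units.val_one])]
      simp [unitOf]
  let f : ℕ → Bool := fun i => if hi : i < D.rank then decide (χ (pRoot hW ⟨i, hi⟩) = -1) else false
  obtain ⟨b, hblt, hbit⟩ := exists_bits D.rank f
  refine ⟨b, hblt, ?_⟩
  show tor χ = _
  rw [tInv]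
  congr 1
  funext r
  refine hW.root_induction (P := fun r => χ r = unitOf F (sgn D masks b (r : Root D))) (fun i => ?_)
    (fun i r hr => ?_) r
  · rw [sgn_simple hW hok, hbit i i.isLt, hsq]
    simp [f, i.isLt]
  · have e : χ (wPerm hW i r) = χ r * χ (pRoot hW i) ^ (-D.cartan i r) := by
      simp only [hχ, ← Finset.prod_zpow, ← Finset.prod_mul_distrib, ← zpow_mul, ← zpow_add,
        hW.cartan_wPerm]
      exact Finset.prod_congr rfl fun k _ => by congr 1; ring
    have hb : unitOf F (b.testBit i) = χ (pRoot hW i) := by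
      rw [hbit i i.isLt, hsq (pRoot hW i)]; simp [f, i.isLt]
    rw [sgn_wPerm hW hok i hblt, ← unitOf_mul, e, hr, ← hb, unitOf_zpow]
    congr 2
    simp only [Int.neg_emod_two]

/-- Every `tInv` lies in the torus when the Cartan matrix is invertible over `ℤ`. -/
theorem tInv_mem (hW : GoodWeyl D) {masks : List ℕ} (hok : maskOk D masks = true)
    {P P' Q Q' : Matrix (Fin D.rank) (Fin D.rank) ℤ} {d : Fin D.rank → ℕ}
    (h : P * P' = 1 ∧ P' * P = 1 ∧ Q * Q' = 1 ∧
      P * ChevTorus.cartanMat D * Q = Matrix.diagonal fun i => (d i : ℤ))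
    (hd : ∀ i, d i = 1) {b : ℕ} (hb : b < 2 ^ D.rank) :
    tInv D F masks b ∈ D.diagonalSubgroup F := by
  have hone : P * (ChevTorus.cartanMat D * Q) = 1 := by
    rw [← mul_assoc, h.2.2.2, ← Matrix.diagonal_one]
    congr 1
    funext i
    simp [hd]
  have hinv : Q * P * ChevTorus.cartanMat D = 1 := by
    have h1 : ChevTorus.cartanMat D * Q * P = 1 := mul_eq_one_comm.1 hone
    rw [mul_assoc] at h1
    exact mul_eq_one_comm.1 h1
  set s : Fin D.rank → Fˣ := fun i => unitOf F (b.testBit i)
  set c : Fin D.rank → Fˣ := ChevTorus.monAct (Q * P) s with hc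
  have hcs : ChevTorus.monAct (ChevTorus.cartanMat D) c = s := by
    rw [hc, ← ChevTorus.monAct_mul, hinv, ChevTorus.monAct_one]
  rw [diagonalSubgroup_eq_range hW]
  refine ⟨c, ?_⟩
  show tor _ = tor _
  congr 1
  funext r
  refine hW.root_induction (P := fun r => (∏ k : Fin D.rank, c k ^ D.cartan k r) =
    unitOf F (sgn D masks b (r : Root D))) (fun i => ?_) (fun i r hr => ?_) r
  · rw [sgn_simple hW hok]
    exact congrFun hcs i
  · have e : (∏ k : Fin D.rank, c k ^ D.cartan k (wPerm hW i r : Root D)) =
        (∏ k : Fin D.rank, c k ^ D.cartan k r) *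
          (∏ k : Fin D.rank, c k ^ D.cartan k (pRoot hW i : Root D)) ^ (-D.cartan i r) := by
      simp only [← Finset.prod_zpow, ← Finset.prod_mul_distrib, ← zpow_mul, ← zpow_add,
        hW.cartan_wPerm]
      exact Finset.prod_congr rfl fun k _ => by congr 1; ring
    have hi : (∏ k : Fin D.rank, c k ^ D.cartan k (pRoot hW i : Root D)) = s i := congrFun hcs i
    rw [sgn_wPerm hW hok i hb, ← unitOf_mul, e, hr, hi, unitOf_zpow]
    congr 2
    simp only [Int.neg_emod_two]

/-- The simple signs after conjugation by the `i`-th reflection. -/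
def stepBits (D : ChevalleyDatum) (masks : List ℕ) (i b : ℕ) : ℕ :=
  ((List.range D.rank).map fun j =>
    if sgn D masks b (D.reflectRoot i (D.simple j)) then 2 ^ j else 0).sum

/-- The check of one step. -/
def stepOk (D : ChevalleyDatum) (masks : List ℕ) (i b b' : ℕ) : Bool :=
  decide (i < D.rank) && decide (b' < 2 ^ D.rank) && (List.range D.rank).all fun j =>
    b'.testBit j == sgn D masks b (D.reflectRoot i (D.simple j))

theorem nR_conj_tInv (hW : GoodWeyl D) {masks : List ℕ} (hok : maskOk D masks = true)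
    {i : Fin D.rank} {b b' : ℕ} (hb : b < 2 ^ D.rank) (hbit : stepOk D masks i b b' = true) :
    (nR hW i : GL D.Idx F) * tInv D F masks b * (nR hW i)⁻¹ = tInv D F masks b' := by
  simp only [stepOk, Bool.and_eq_true, decide_eq_true_eq, List.all_eq_true, List.mem_range,
    beq_iff_eq] at hbit
  rw [tInv, tor_mul_nR, mul_inv_cancel_right, tInv]
  congr 1
  funext r
  refine hW.root_induction (P := fun r => unitOf F (sgn D masks b (wPerm hW i r : Root D)) =
    unitOf F (sgn D masks b' (r : Root D))) (fun j => ?_) (fun j r hr => ?_) r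
  · rw [sgn_simple hW hok, hbit.2 j j.isLt, hW.wPerm_val]
    rfl
  · -- both sides are characters
    have hchar : ∀ x : Root D, ∀ k : Fin D.rank, unitOf F (sgn D masks b (wPerm hW k x : Root D)) =
        unitOf F (sgn D masks b x) *
          unitOf F (b.testBit k) ^ D.cartan k x := fun x k => by
      rw [unitOf_zpow, unitOf_mul, sgn_wPerm hW hok k hb]
    have h1 : unitOf F (b'.testBit j) =
        unitOf F (b.testBit j) * unitOf F (b.testBit i) ^ D.cartan i (pRoot hW j : Root D) := by
      rw [hbit.2 j j.isLt, show D.reflectRoot i (D.simple j) = (wPerm hW i (pRoot hW j) : ℕ) from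
        (hW.wPerm_val i (pRoot hW j)).symm, hchar, sgn_simple hW hok]
    rw [sgn_wPerm hW hok j hbit.1.2, ← unitOf_mul, ← hr, ← unitOf_zpow, hchar r i, h1,
      hchar _ i, hchar r j, hW.cartan_wPerm]
    generalize D.cartan i r = m
    generalize D.cartan j r = n
    generalize D.cartan i (pRoot hW j : Root D) = l
    have hy : unitOf F (b.testBit i) * unitOf F (b.testBit i) = 1 := by
      rw [unitOf_mul]; cases b.testBit i <;> rfl
    generalize unitOf F (sgn D masks b r) = x
    generalize unitOf F (b.testBit j) = z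
    revert hy
    generalize unitOf F (b.testBit i) = y
    intro hy
    rw [mul_zpow, ← zpow_mul, zpow_sub, inv_eq_of_mul_eq_one_right (a := y ^ (n * l))
      (b := y ^ (n * l)) (by rw [← mul_zpow, hy, one_zpow]), mul_comm l n]
    simp only [mul_assoc, mul_comm, mul_left_comm]

theorem nR_mem_group (hW : GoodWeyl D) (i : Fin D.rank) : (nR hW i : GL D.Idx F) ∈ D.group F :=
  mul_mem (mul_mem (X_mem_group _ _ _) (X_mem_group _ _ _)) (X_mem_group _ _ _)

/-- The check of a table of fusion paths to the representatives. -/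
def fuseOk (D : ChevalleyDatum) (masks reps : List ℕ) (path : List (ℕ × ℕ)) : Bool :=
  decide (path.length = 2 ^ D.rank) && (List.range (2 ^ D.rank)).all fun b =>
    b == 0 || reps.contains b ||
      (decide ((path.getD b (0, 0)).2 ≠ 0) && stepOk D masks (path.getD b (0, 0)).1 b (path.getD b (0, 0)).2)

/-- A list of steps decreases a potential. -/
def potOk (D : ChevalleyDatum) (reps : List ℕ) (path : List (ℕ × ℕ)) (pot : List ℕ) : Bool :=
  (List.range (2 ^ D.rank)).all fun b =>
    b == 0 || reps.contains b || decide (pot.getD (path.getD b (0, 0)).2 0 < pot.getD b 0)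

theorem exists_conj_rep (hW : GoodWeyl D) {masks reps pot : List ℕ} {path : List (ℕ × ℕ)}
    (hok : maskOk D masks = true) (hf : fuseOk D masks reps path = true)
    (hp : potOk D reps path pot = true) :
    ∀ b, b < 2 ^ D.rank → b ≠ 0 → ∃ x ∈ D.group F, ∃ s ∈ reps,
      x * tInv D F masks b * x⁻¹ = tInv D F masks s := by
  intro b
  induction hn : pot.getD b 0 using Nat.strong_induction_on generalizing b with
  | _ n ih =>
    subst hn
    intro hb hb0
    by_cases hr : b ∈ reps
    · exact ⟨1, one_mem _, b, hr, by simp⟩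
    simp only [fuseOk, potOk, Bool.and_eq_true, Bool.or_eq_true, List.all_eq_true, List.mem_range,
      beq_iff_eq, List.contains_iff_mem, decide_eq_true_eq] at hf hp
    obtain ⟨hne, hstep⟩ := ((hf.2 b hb).resolve_left fun e => e.elim hb0 hr)
    have hdec := (hp b hb).resolve_left fun e => e.elim hb0 hr
    have hs := hstep
    simp only [stepOk, Bool.and_eq_true, decide_eq_true_eq] at hs
    obtain ⟨x, hx, s, hsr, e⟩ := ih _ hdec _ rfl hs.1.2 hne
    refine ⟨x * nR hW ⟨_, hs.1.1⟩, mul_mem hx (nR_mem_group hW _), s, hsr, ?_⟩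
    rw [← e, ← nR_conj_tInv hW hok (i := ⟨_, hs.1.1⟩) hb hstep]
    group

theorem tInv_zero (masks : List ℕ) : tInv D F masks 0 = 1 := by
  rw [tInv, ← tor_one]
  congr 1
  funext r
  have : ∀ n, parity n (masks.getD (r : ℕ) 0) 0 = false := by
    intro n
    induction n with
    | zero => rfl
    | succ n ih => rw [parity, ih, Nat.zero_testBit, Bool.and_false]; rfl
  rw [sgn, this]
  rfl

/-- Every involution of the group is conjugate to one of the representatives. -/
theorem exists_conj_tInv (hW : GoodWeyl D) (h : Weyl.RootGood C M R) [Fintype F]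
    (hF : Odd (Fintype.card F)) (hG : InvolGood hW h) {masks reps pot : List ℕ}
    {path : List (ℕ × ℕ)} (hok : maskOk D masks = true) (hf : fuseOk D masks reps path = true)
    (hp : potOk D reps path pot = true) {g : GL D.Idx F} (hg : g ∈ D.group F) (hg2 : g * g = 1)
    (hne : g ≠ 1) : ∃ x ∈ D.group F, ∃ s ∈ reps, x * g * x⁻¹ = tInv D F masks s := by
  obtain ⟨x, hx, hxN, hxsq⟩ := exists_conj_monomial hW h hF hg hg2
  obtain ⟨y, hy, hyH⟩ := exists_conj_diag hW h hF hG hxN hxsq
  have hysq : y * (x * g * x⁻¹) * y⁻¹ * (y * (x * g * x⁻¹) * y⁻¹) = 1 := by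
    rw [show y * (x * g * x⁻¹) * y⁻¹ * (y * (x * g * x⁻¹) * y⁻¹) =
      y * (x * g * x⁻¹ * (x * g * x⁻¹)) * y⁻¹ by group, hxsq]
    group
  obtain ⟨b, hb, e⟩ := exists_eq_tInv hW hok hyH hysq
  have hb0 : b ≠ 0 := by
    rintro rfl
    rw [tInv_zero, conj_eq_one_iff, conj_eq_one_iff] at e
    exact hne e
  obtain ⟨z, hz, s, hs, e'⟩ := exists_conj_rep (F := F) hW hok hf hp b hb hb0
  refine ⟨z * y * x, mul_mem (mul_mem hz hy) hx, s, hs, ?_⟩
  rw [← e', ← e]
  group

end CfsgLib.ChevOddInvol
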